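import Groth.Agent.L09.IndLan.AccExact
import Groth.Agent.L17.QCohGab.FPObj
import Groth.Agent.L16.CohSupport
import Groth.Agent.L16.Devissage
import Groth.Agent.L15.Ref.FreeLocus
import Groth.Prelude.Def_Coh
import Mathlib.CategoryTheory.Abelian.GrothendieckCategory.Basic
import Mathlib.CategoryTheory.ObjectProperty.FiniteProducts

/-!
# Coherent modules inside quasi-coherent modules on a Noetherian scheme
-/

set_option autoImplicit false
set_option linter.style.haveILetI false
set_option linter.unusedSectionVars false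
set_option backward.isDefEq.respectTransparency false
set_option backward.isDefEq.respectTransparency.types false

universe v' u' u

open CategoryTheory CategoryTheory.Limits AlgebraicGeometry

noncomputable section

namespace Groth.L09.IndLan.QC

variable (X : Scheme.{u})

/-- Coherent modules. -/
abbrev cohM : ObjectProperty X.Modules := fun M => Coh.IsCoh M

/-- Coherent objects among quasi-coherent modules. -/
abbrev cohQ : ObjectProperty (QCohCat.QCoh X) := fun M => Coh.IsCoh M.obj

/-- Coherent modules into quasi-coherent ones. -/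
abbrev cohι : (cohM X).FullSubcategory ⥤ QCohCat.QCoh X :=
  ObjectProperty.ιOfLE (P := fun M : X.Modules => Coh.IsCoh M) (P' := QCohCat.isQCoh X) fun _ h => h.1

variable [IsNoetherian X]

instance cohM_iso : (cohM X).IsClosedUnderIsomorphisms := ⟨fun e h => Groth.L16.CohSupport.isCoh_of_iso e h⟩

instance cohM_zero : (cohM X).ContainsZero :=
  ⟨⟨_, isZero_zero _, Groth.L16.Devissage.isCoh_of_isZero (isZero_zero X.Modules)⟩⟩

instance cohM_kernels : (cohM X).IsClosedUnderKernels where
  kernels_le := by
    rintro _ ⟨f, k, hk, hM, hN⟩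
    exact (cohM X).prop_of_iso ((kernelIsKernel f).conePointUniqueUpToIso hk)
      (Groth.L16.CohKernel.isCoh_kernel_cokernel hM hN f).1

instance cohM_cokernels : (cohM X).IsClosedUnderCokernels where
  cokernels_le := by
    rintro _ ⟨f, k, hk, hM, hN⟩
    exact (cohM X).prop_of_iso ((cokernelIsCokernel f).coconePointUniqueUpToIso hk)
      (Groth.L16.CohKernel.isCoh_kernel_cokernel hM hN f).2

instance cohM_finiteProducts : (cohM X).IsClosedUnderFiniteProducts := by
  haveI : (cohM X).IsClosedUnderBinaryProducts := ⟨fun M ⟨p⟩ => by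
    haveI : HasBinaryBiproducts X.Modules := HasBinaryBiproducts.of_hasBinaryProducts
    exact (cohM X).prop_of_iso
      (biprod.isoProd _ _ ≪≫ lim.mapIso (diagramIsoPair p.diag).symm ≪≫ (limit.isLimit p.diag).conePointUniqueUpToIso p.isLimit)
      (Groth.L16.Devissage.isCoh_biprod (p.prop_diag_obj ⟨.left⟩) (p.prop_diag_obj ⟨.right⟩))⟩
  exact ObjectProperty.IsClosedUnderFiniteProducts.mk'

instance cohι_preservesFiniteLimits : PreservesFiniteLimits (cohι X) := by
  haveI := fun {A B : (cohM X).FullSubcategory} (f : A ⟶ B) => (cohM X).preservesKernels_ι f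
  haveI : PreservesFiniteLimits (cohι X ⋙ (QCohCat.isQCoh X).ι) :=
    show PreservesFiniteLimits (cohM X).ι from Functor.preservesFiniteLimits_of_preservesKernels (cohM X).ι
  exact ⟨fun J _ _ => preservesLimitsOfShape_of_reflects_of_preserves _ (QCohCat.isQCoh X).ι⟩

instance cohι_preservesFiniteColimits : PreservesFiniteColimits (cohι X) := by
  haveI := fun {A B : (cohM X).FullSubcategory} (f : A ⟶ B) => (cohM X).preservesCokernels_ι f
  haveI : HasFiniteBiproducts (cohM X).FullSubcategory := HasFiniteBiproducts.of_hasFiniteProducts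
  haveI : PreservesFiniteColimits (cohι X ⋙ (QCohCat.isQCoh X).ι) :=
    show PreservesFiniteColimits (cohM X).ι from Functor.preservesFiniteColimits_of_preservesCokernels (cohM X).ι
  exact ⟨fun J _ _ => preservesColimitsOfShape_of_reflects_of_preserves _ (QCohCat.isQCoh X).ι⟩

theorem cohQ_fp (M : QCohCat.QCoh X) (hM : cohQ X M) : IsFinitelyPresentable.{u} M :=
  Groth.L17.QCohGab.isFinitelyPresentable_of_isFP X M (Groth.L15.Ref.isFP_of_isCoh hM)

theorem cohQ_ind (M : QCohCat.QCoh X) : ObjectProperty.ind.{u} (cohQ X) M := by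
  haveI : Coh.IsQCoh M.obj := M.property
  obtain ⟨I, _, hI, D, c, hc, hfp, hpt⟩ := Groth.L19.FPExtend.exists_isColimit_fp M.obj
  obtain ⟨pt, ι⟩ := c
  cases hpt
  have hcoh : ∀ i, Coh.IsCoh (D.obj i) := fun i => by
    haveI : SheafOfModules.IsFinitePresentation (R := X.ringCatSheaf) (D.obj i) := hfp i
    exact ⟨inferInstance, inferInstance⟩
  let D' : I ⥤ QCohCat.QCoh X := (QCohCat.isQCoh X).lift D fun i => (hcoh i).1
  let c' : Cocone D' := ⟨M, { app := fun i => ObjectProperty.homMk (ι.app i)
                              naturality := fun i j f => ObjectProperty.hom_ext _ (by simpa [D'] using ι.naturality f) }⟩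
  have hc' : IsColimit c' := isColimitOfReflects (QCohCat.isQCoh X).ι
    (IsColimit.ofIsoColimit hc (Cocone.ext (Iso.refl _) fun i => Category.comp_id _))
  exact ⟨I, inferInstance, hI, ⟨D', c'.ι, hc'⟩, hcoh⟩

instance cohQ_kernels : (cohQ X).IsClosedUnderKernels where
  kernels_le := by
    rintro _ ⟨f, k, hk, hM, hN⟩
    exact (cohM X).prop_of_isLimit_kernelFork ((KernelFork.isLimitMapConeEquiv _ _) (isLimitOfPreserves (QCohCat.isQCoh X).ι hk)) hM hN

instance cohQ_cokernels : (cohQ X).IsClosedUnderCokernels where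
  cokernels_le := by
    rintro _ ⟨f, k, hk, hM, hN⟩
    exact (cohM X).prop_of_isColimit_cokernelCofork ((CokernelCofork.isColimitMapCoconeEquiv _ _) (isColimitOfPreserves (QCohCat.isQCoh X).ι hk)) hM hN

/-- Coherent objects of `QCoh` are coherent modules. -/
def Φ : (cohQ X).FullSubcategory ⥤ (cohM X).FullSubcategory where
  obj M := ⟨M.obj.obj, M.property⟩
  map f := ObjectProperty.homMk f.hom.hom

/-- The inverse. -/
def Ψ : (cohM X).FullSubcategory ⥤ (cohQ X).FullSubcategory where
  obj M := ⟨(cohι X).obj M, M.property⟩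
  map f := ObjectProperty.homMk ((cohι X).map f)

/-- The two notions agree. -/
def cohEquiv : (cohQ X).FullSubcategory ≌ (cohM X).FullSubcategory :=
  CategoryTheory.Equivalence.mk (Φ X) (Ψ X) (Iso.refl _) (Iso.refl _)

instance : (Φ X).IsEquivalence := (cohEquiv X).isEquivalence_functor

instance : (Φ X).Additive := ⟨fun {_ _ _ _} => rfl⟩

variable {B : Type u'} [Category.{v'} B]

theorem nonempty_restrict (F : (cohM X).FullSubcategory ⥤ B) (F' : QCohCat.QCoh X ⥤ B) :
    Nonempty (cohι X ⋙ F' ≅ F) ↔ Nonempty ((cohQ X).ι ⋙ F' ≅ Φ X ⋙ F) :=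
  ⟨fun ⟨e⟩ => ⟨Functor.isoWhiskerLeft (Φ X) e⟩, fun ⟨e⟩ => ⟨Functor.isoWhiskerLeft (Ψ X) e⟩⟩

end Groth.L09.IndLan.QC
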