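import Groth.Agent.L09.IndLan.Pres

/-!
# A cocontinuous functor fully faithful on finitely presentable objects is fully faithful on their colimits
-/

set_option autoImplicit false
set_option linter.style.haveILetI false
set_option linter.unusedSectionVars false
set_option backward.isDefEq.respectTransparency false
set_option backward.isDefEq.respectTransparency.types false

universe u w w'

open CategoryTheory CategoryTheory.Limits

noncomputable section

namespace Groth.L09.IndLan

variable {C : Type w} [Category.{u} C] {D : Type w'} [Category.{u} D] {P : ObjectProperty C} (F : C ⥤ D)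
  [PreservesColimitsOfSize.{u, u} F]
  (hP : ∀ c, P c → IsFinitelyPresentable.{u} c) (hFP : ∀ c, P c → IsFinitelyPresentable.{u} (F.obj c))
  (hff : ∀ c c', P c → P c' → Function.Bijective (fun φ : c ⟶ c' => F.map φ))
include hP hFP hff

theorem injective_of_prop {c : C} (hc : P c) {N : C} (hN : ObjectProperty.ind.{u} P N) :
    Function.Injective (fun φ : c ⟶ N => F.map φ) := by
  obtain ⟨J, _, _, pres, hp⟩ := hN
  intro φ φ' he
  haveI := hP c hc
  haveI := hFP c hc
  obtain ⟨i, a, rfl⟩ := IsFinitelyPresentable.exists_hom_of_isColimit pres.isColimit φ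
  obtain ⟨i', a', rfl⟩ := IsFinitelyPresentable.exists_hom_of_isColimit pres.isColimit φ'
  let t := pres.isColimit
  obtain ⟨k, v, v', hk⟩ := IsFinitelyPresentable.exists_eq_of_isColimit (isColimitOfPreserves F t)
    (F.map a) (F.map a') (by simpa using he)
  have hk' : a ≫ pres.diag.map v = a' ≫ pres.diag.map v' :=
    (hff c _ hc (hp k)).1 (by simpa using hk)
  have h := congrArg (· ≫ pres.ι.app k) hk'
  simp only [Category.assoc] at h
  simpa [show pres.diag.map v ≫ pres.ι.app k = pres.ι.app i from (pres.ι.naturality v).trans (Category.comp_id _),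
    show pres.diag.map v' ≫ pres.ι.app k = pres.ι.app i' from (pres.ι.naturality v').trans (Category.comp_id _)] using h

theorem bijective_ind {M N : C} (hM : ObjectProperty.ind.{u} P M) (hN : ObjectProperty.ind.{u} P N) :
    Function.Bijective (fun φ : M ⟶ N => F.map φ) := by
  obtain ⟨J, _, _, pres, hp⟩ := hM
  have hinj := fun j => injective_of_prop F hP hFP hff (hp j) hN
  constructor
  · intro φ φ' he
    refine pres.isColimit.hom_ext fun j => hinj j ?_
    have he' : F.map φ = F.map φ' := he
    show F.map _ = F.map _
    rw [F.map_comp, F.map_comp, he']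
  · intro Θ
    obtain ⟨J', _, _, pres', hp'⟩ := hN
    have hlift : ∀ j, ∃ g : pres.diag.obj j ⟶ N, F.map g = F.map (pres.ι.app j) ≫ Θ := fun j => by
      haveI := hFP _ (hp j)
      obtain ⟨i, a, ha⟩ := IsFinitelyPresentable.exists_hom_of_isColimit (isColimitOfPreserves F pres'.isColimit)
        (F.map (pres.ι.app j) ≫ Θ)
      obtain ⟨b, hb⟩ := (hff _ _ (hp j) (hp' i)).2 a
      refine ⟨b ≫ pres'.ι.app i, ?_⟩
      rw [F.map_comp, show F.map b = a from hb]
      exact ha
    choose g hg using hlift
    let c : Cocone pres.diag :=
      { pt := N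
        ι :=
          { app := g
            naturality := fun i j v => by
              refine (hinj i ?_).trans (Category.comp_id _).symm
              show F.map _ = F.map _
              rw [F.map_comp, hg, hg, ← F.map_comp_assoc]
              exact congrArg (fun t => F.map t ≫ Θ) ((pres.ι.naturality v).trans (Category.comp_id _)) } }
    refine ⟨pres.isColimit.desc c, (isColimitOfPreserves F pres.isColimit).hom_ext fun j => ?_⟩
    show F.map _ ≫ F.map _ = F.map _ ≫ Θ
    rw [← F.map_comp, pres.isColimit.fac c j]
    exact hg j

/-- The filtered colimits of images are images of filtered colimits. -/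
theorem exists_of_ind_map [HasFilteredColimitsOfSize.{u, u} C] {Q : ObjectProperty D}
    (hQ : ∀ d, Q d → ∃ c, P c ∧ Nonempty (F.obj c ≅ d)) {M : D} (hM : ObjectProperty.ind.{u} Q M) :
    ∃ G : C, ObjectProperty.ind.{u} P G ∧ Nonempty (F.obj G ≅ M) := by
  obtain ⟨J, _, hJ, pres, hp⟩ := hM
  choose c hc hne using fun j => hQ _ (hp j)
  let e := fun j => (hne j).some
  choose m hm using fun (i j : J) (v : i ⟶ j) =>
    (hff _ _ (hc i) (hc j)).2 ((e i).hom ≫ pres.diag.map v ≫ (e j).inv)
  let E : J ⥤ C :=
    { obj := c
      map := fun {i j} v => m i j v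
      map_id := fun i => (hff _ _ (hc i) (hc i)).1 ((hm i i _).trans (by simp))
      map_comp := fun {i j k} v v' => (hff _ _ (hc i) (hc k)).1 ((hm i k _).trans (by
        show _ = F.map (m i j v ≫ m j k v')
        rw [F.map_comp, show F.map (m i j v) = _ from hm i j v, show F.map (m j k v') = _ from hm j k v']
        simp)) }
  let α : E ⋙ F ≅ pres.diag := NatIso.ofComponents e fun {i j} v => by
    show F.map (m i j v) ≫ (e j).hom = (e i).hom ≫ pres.diag.map v
    rw [show F.map (m i j v) = _ from hm i j v]
    simp
  haveI : HasColimitsOfShape J C := inferInstance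
  refine ⟨colimit E, ⟨J, inferInstance, hJ, ⟨E, (colimit.cocone E).ι, colimit.isColimit E⟩, hc⟩, ⟨?_⟩⟩
  exact (isColimitOfPreserves F (colimit.isColimit E)).coconePointsIsoOfNatIso pres.isColimit α

end Groth.L09.IndLan
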