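import Mathlib.CategoryTheory.ObjectProperty.Ind
import Mathlib.CategoryTheory.ObjectProperty.Kernels
import Mathlib.CategoryTheory.Functor.KanExtension.Pointwise
import Mathlib.CategoryTheory.Comma.Final
import Mathlib.CategoryTheory.Preadditive.LeftExact
import Mathlib.CategoryTheory.Limits.Constructions.Filtered
import Mathlib.CategoryTheory.Abelian.Basic

/-!
# Functors commuting with filtered colimits on a category exhausted by finitely presentable objects
-/

set_option autoImplicit false
set_option linter.style.haveILetI false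
set_option linter.unusedSectionVars false
set_option backward.isDefEq.respectTransparency false
set_option backward.isDefEq.respectTransparency.types false

universe v' u' u w

open CategoryTheory CategoryTheory.Limits

noncomputable section

namespace Groth.L09.IndLan.Acc

variable {C : Type w} [Category.{u} C] {P : ObjectProperty C}
  {J : Type u} [SmallCategory J] {M : C} (p : ColimitPresentation J M) (hp : ∀ i, P (p.diag.obj i))

theorem p_w {i j : J} (g : i ⟶ j) : p.diag.map g ≫ p.ι.app j = p.ι.app i :=
  (p.ι.naturality g).trans (Category.comp_id _)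

/-- The functor to the costructured arrows. -/
def toCA : J ⥤ CostructuredArrow P.ι M :=
  (P.lift p.diag hp).toCostructuredArrow P.ι M (fun j => p.ι.app j) fun g => p_w p g

variable (hP : ∀ c, P c → IsFinitelyPresentable.{u} c)
include hP

theorem toCA_final [IsFiltered J] : (toCA p hp).Final := by
  refine Functor.final_of_exists_of_isFiltered _ (fun x => ?_) fun {x j} s s' => ?_
  · haveI : IsFinitelyPresentable.{u} (P.ι.obj x.left) := hP _ x.left.property
    obtain ⟨j, g, hg⟩ := IsFinitelyPresentable.exists_hom_of_isColimit p.isColimit x.hom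
    exact ⟨j, ⟨CostructuredArrow.homMk (ObjectProperty.homMk g) hg⟩⟩
  · haveI := hP _ x.left.property
    obtain ⟨k, a, b, hk⟩ := IsFinitelyPresentable.exists_eq_of_isColimit p.isColimit s.left.hom s'.left.hom
      ((CostructuredArrow.w s).trans (CostructuredArrow.w s').symm)
    obtain ⟨m, q, hq⟩ : ∃ (m : J) (q : k ⟶ m), a ≫ q = b ≫ q :=
      ⟨_, IsFiltered.coeqHom a b, IsFiltered.coeq_condition a b⟩
    refine ⟨m, a ≫ q, CostructuredArrow.hom_ext _ _ (ObjectProperty.hom_ext _ ?_)⟩
    have h := congrArg (· ≫ p.diag.map q) hk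
    simp only [Category.assoc] at h
    show s.left.hom ≫ p.diag.map (a ≫ q) = s'.left.hom ≫ p.diag.map (a ≫ q)
    nth_rewrite 2 [hq]
    rw [p.diag.map_comp, p.diag.map_comp]
    exact h

variable (hgen : ∀ X : C, ObjectProperty.ind.{u} P X) {B : Type u'} [Category.{v'} B]
  [HasFilteredColimitsOfSize.{u, u} B]

include hgen in
theorem hasPointwiseLeftKanExtension (F : P.FullSubcategory ⥤ B) : P.ι.HasPointwiseLeftKanExtension F := by
  intro X
  obtain ⟨J, _, _, p, hp⟩ := hgen X
  haveI := toCA_final p hp hP
  haveI : HasColimitsOfShape J B := inferInstance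
  exact Functor.Final.hasColimit_of_comp (toCA p hp)

include hgen in
/-- A functor commuting with filtered colimits is the left Kan extension of its restriction. -/
theorem isPointwise_of_preserves {F : P.FullSubcategory ⥤ B} (F₁ : C ⥤ B) [PreservesFilteredColimitsOfSize.{u, u} F₁]
    (e : P.ι ⋙ F₁ ≅ F) :
    Nonempty (Functor.LeftExtension.mk F₁ e.inv).IsPointwiseLeftKanExtension := by
  refine ⟨fun X => ?_⟩
  let q := hgen X
  let J := q.choose
  letI : SmallCategory J := q.choose_spec.choose
  haveI : IsFiltered J := q.choose_spec.choose_spec.choose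
  let p : ColimitPresentation J X := q.choose_spec.choose_spec.choose_spec.choose
  have hp : ∀ i, P (p.diag.obj i) := q.choose_spec.choose_spec.choose_spec.choose_spec
  haveI := toCA_final p hp hP
  refine (Functor.Final.isColimitWhiskerEquiv (toCA p hp) _).1 ?_
  let α : P.lift p.diag hp ⋙ F ≅ p.diag ⋙ F₁ :=
    Functor.isoWhiskerLeft (P.lift p.diag hp) e.symm
  refine IsColimit.ofIsoColimit ((IsColimit.precomposeHomEquiv α _).symm (isColimitOfPreserves F₁ p.isColimit)) ?_
  exact Cocone.ext (Iso.refl _) fun j => Category.comp_id _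

include hgen in
/-- Functors commuting with filtered colimits agreeing on `P` are isomorphic. -/
theorem nonempty_iso {F : P.FullSubcategory ⥤ B} (F₁ F₂ : C ⥤ B) [PreservesFilteredColimitsOfSize.{u, u} F₁]
    [PreservesFilteredColimitsOfSize.{u, u} F₂] (e₁ : P.ι ⋙ F₁ ≅ F) (e₂ : P.ι ⋙ F₂ ≅ F) : Nonempty (F₁ ≅ F₂) := by
  haveI : F₁.IsLeftKanExtension e₁.inv := (isPointwise_of_preserves hP hgen F₁ e₁).some.isLeftKanExtension
  haveI : F₂.IsLeftKanExtension e₂.inv := (isPointwise_of_preserves hP hgen F₂ e₂).some.isLeftKanExtension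
  exact ⟨F₁.leftKanExtensionUnique e₁.inv F₂ e₂.inv⟩

variable (F : P.FullSubcategory ⥤ B) [P.ι.HasPointwiseLeftKanExtension F]

/-- The extension commutes with filtered colimits. -/
theorem preserves_lan : PreservesFilteredColimitsOfSize.{u, u} (P.ι.pointwiseLeftKanExtension F) := by
  refine ⟨fun K _ _ => ⟨fun {D} => ⟨fun {c} hc => ?_⟩⟩⟩
  let L := P.ι.pointwiseLeftKanExtension F
  let α := P.ι.pointwiseLeftKanExtensionUnit F
  have hW := P.ι.pointwiseLeftKanExtensionIsPointwiseLeftKanExtension F
  have key : ∀ (s : Cocone (D ⋙ L)) (g : CostructuredArrow P.ι c.pt), ∃ m : F.obj g.left ⟶ s.pt,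
      ∀ (k : K) (a : g.left.obj ⟶ D.obj k), a ≫ c.ι.app k = g.hom → α.app g.left ≫ L.map a ≫ s.ι.app k = m := by
    intro s g
    haveI : IsFinitelyPresentable.{u} (P.ι.obj g.left) := hP _ g.left.property
    obtain ⟨k₀, a₀, ha₀⟩ := IsFinitelyPresentable.exists_hom_of_isColimit hc g.hom
    refine ⟨α.app g.left ≫ L.map a₀ ≫ s.ι.app k₀, fun k a ha => ?_⟩
    obtain ⟨m, u, v, h⟩ := IsFinitelyPresentable.exists_eq_of_isColimit (X := P.ι.obj g.left) hc a a₀ (ha.trans ha₀.symm)
    rw [← s.w u, ← s.w v, Functor.comp_map, Functor.comp_map, ← L.map_comp_assoc, ← L.map_comp_assoc, h]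
  choose m hm using key
  have hfac : ∀ (g : CostructuredArrow P.ι c.pt), ∃ (k : K) (a : g.left.obj ⟶ D.obj k), a ≫ c.ι.app k = g.hom :=
    fun g => by
      haveI : IsFinitelyPresentable.{u} (P.ι.obj g.left) := hP _ g.left.property
      exact IsFinitelyPresentable.exists_hom_of_isColimit hc g.hom
  let t : ∀ s : Cocone (D ⋙ L), Cocone (CostructuredArrow.proj P.ι c.pt ⋙ F) := fun s =>
    { pt := s.pt
      ι :=
        { app := fun g => m s g
          naturality := fun g g' f => by
            obtain ⟨k, a, ha⟩ := hfac g'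
            refine Eq.trans ?_ (Category.comp_id _).symm
            rw [← hm s g' k a ha, ← hm s g k (f.left.hom ≫ a) (by
              rw [Category.assoc, ha]; exact CostructuredArrow.w f)]
            show F.map f.left ≫ _ = _
            rw [L.map_comp, Category.assoc, ← Category.assoc, show F.map f.left ≫ α.app g'.left =
              α.app g.left ≫ L.map f.left.hom from α.naturality f.left, Category.assoc] } }
  refine ⟨{ desc := fun s => (hW c.pt).desc (t s), fac := fun s k => ?_, uniq := fun s e he => ?_ }⟩
  · refine (hW (D.obj k)).hom_ext fun g => ?_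
    have h := (hW c.pt).fac (t s) (CostructuredArrow.mk (g.hom ≫ c.ι.app k))
    show (α.app g.left ≫ L.map g.hom) ≫ L.map (c.ι.app k) ≫ _ = (α.app g.left ≫ L.map g.hom) ≫ s.ι.app k
    rw [Category.assoc, ← L.map_comp_assoc]
    refine (Category.assoc _ _ _).symm.trans (h.trans ?_)
    rw [Category.assoc]
    exact (hm s (CostructuredArrow.mk (g.hom ≫ c.ι.app k)) k g.hom rfl).symm
  · refine (hW c.pt).uniq (t s) e fun g => ?_
    obtain ⟨k, a, ha⟩ := hfac g
    show (α.app g.left ≫ L.map g.hom) ≫ e = m s g
    rw [← hm s g k a ha, ← ha, L.map_comp, ← he k]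
    simp only [Category.assoc]
    rfl

end Groth.L09.IndLan.Acc
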