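import Groth.Agent.L09.IndLan.Pres
import Mathlib.CategoryTheory.Preadditive.LeftExact
import Mathlib.CategoryTheory.Abelian.Exact
import Mathlib.Algebra.Homology.ShortComplex.ExactFunctor
import Mathlib.CategoryTheory.Limits.Preserves.Shapes.Kernels

/-!
# Exactness of the left Kan extension to small filtered colimits
-/

set_option autoImplicit false
set_option linter.style.haveILetI false
set_option linter.unusedSectionVars false
set_option backward.isDefEq.respectTransparency false
set_option backward.isDefEq.respectTransparency.types false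

universe v' u' u w vB uB

open CategoryTheory CategoryTheory.Limits

noncomputable section

namespace Groth.L09.IndLan

section Colim

variable {B : Type uB} [Category.{vB} B] [Abelian B] {J : Type u} [SmallCategory J] [IsFiltered J]
  [HasFilteredColimitsOfSize.{u, u} B] [AB5OfSize.{u, u} B]
  {X Y Z : J ⥤ B} (α : X ⟶ Y) (β : Y ⟶ Z)
  {tX : Cocone X} (hX : IsColimit tX) {tY : Cocone Y} (hY : IsColimit tY) {tZ : Cocone Z} (hZ : IsColimit tZ)

theorem exact_of_app (w : α ≫ β = 0) (h : ∀ j, (ShortComplex.mk (α.app j) (β.app j)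
      (by rw [← NatTrans.comp_app, w]; rfl)).Exact) : (ShortComplex.mk α β w).Exact := by
  rw [ShortComplex.exact_iff_isZero_homology]
  refine Functor.isZero _ fun j => ?_
  refine IsZero.of_iso ((ShortComplex.exact_iff_isZero_homology _).1 (h j))
    (ShortComplex.mapHomologyIso (ShortComplex.mk α β w) ((evaluation J B).obj j)).symm

include hX hY hZ

theorem kernel_colim (a : tX.pt ⟶ tY.pt) (b : tY.pt ⟶ tZ.pt) (ha : ∀ j, tX.ι.app j ≫ a = α.app j ≫ tY.ι.app j)
    (hb : ∀ j, tY.ι.app j ≫ b = β.app j ≫ tZ.ι.app j) (hz : ∀ j, α.app j ≫ β.app j = 0)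
    (hm : ∀ j, Mono (α.app j)) (he : ∀ j, (ShortComplex.mk (α.app j) (β.app j) (hz j)).Exact) :
    ∃ w, Nonempty (IsLimit (KernelFork.ofι (f := b) a w)) := by
  have w : α ≫ β = 0 := by ext j; exact hz j
  haveI : HasColimitsOfShape J B := inferInstance
  have hex := colim.exact_mapShortComplex (exact_of_app α β w he) hX hY hZ a b ha hb
  haveI : Mono α := NatTrans.mono_of_mono_app _
  haveI : Mono a := colim.map_mono' α hX hY a (by simpa using ha)
  haveI : Mono (colim.mapShortComplex (ShortComplex.mk α β w) hX tY tZ a b ha hb).f := ‹Mono a›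
  exact ⟨_, ⟨hex.fIsKernel⟩⟩

theorem cokernel_colim (a : tX.pt ⟶ tY.pt) (b : tY.pt ⟶ tZ.pt) (ha : ∀ j, tX.ι.app j ≫ a = α.app j ≫ tY.ι.app j)
    (hb : ∀ j, tY.ι.app j ≫ b = β.app j ≫ tZ.ι.app j) (hz : ∀ j, α.app j ≫ β.app j = 0)
    (hp : ∀ j, Epi (β.app j)) (he : ∀ j, (ShortComplex.mk (α.app j) (β.app j) (hz j)).Exact) :
    ∃ w, Nonempty (IsColimit (CokernelCofork.ofπ (f := a) b w)) := by
  have w : α ≫ β = 0 := by ext j; exact hz j
  haveI : HasColimitsOfShape J B := inferInstance
  have hex := colim.exact_mapShortComplex (exact_of_app α β w he) hX hY hZ a b ha hb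
  haveI : Epi β := NatTrans.epi_of_epi_app _
  haveI : Epi b := colim.map_epi' β tY hZ b (by simpa using hb)
  haveI : Epi (colim.mapShortComplex (ShortComplex.mk α β w) hX tY tZ a b ha hb).g := ‹Epi b›
  exact ⟨_, ⟨hex.gIsCokernel⟩⟩

end Colim

variable {C : Type w} [Category.{u} C] [Abelian C] [HasFilteredColimitsOfSize.{u, u} C] [AB5OfSize.{u, u} C]
  {P : ObjectProperty C} (hP : ∀ c, P c → IsFinitelyPresentable.{u} c)
include hP

/-- The kernel of a morphism of filtered colimits is a filtered colimit. -/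
theorem exists_kernelDia [P.IsClosedUnderKernels] {M N : (ObjectProperty.ind.{u} P).FullSubcategory} (f : M ⟶ N) :
    ∃ (K : (ObjectProperty.ind.{u} P).FullSubcategory) (k : K ⟶ M) (w : k ≫ f = 0)
      (I : Type u) (_ : SmallCategory I) (_ : IsFiltered I) (dK : Dia P K I) (d : Dia P M I) (e : Dia P N I)
      (χ : dK.D ⟶ d.D) (φ : d.D ⟶ e.D),
      (∀ i, (χ.app i).hom ≫ d.t.app i = dK.t.app i ≫ k.hom) ∧
      (∀ i, (φ.app i).hom ≫ e.t.app i = d.t.app i ≫ f.hom) ∧
      (∀ i, ∃ w' : χ.app i ≫ φ.app i = 0, Nonempty (IsLimit (KernelFork.ofι (f := φ.app i) (χ.app i) w'))) ∧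
      ∃ w₀ : k.hom ≫ f.hom = 0, Nonempty (IsLimit (KernelFork.ofι (f := f.hom) k.hom w₀)) := by
  obtain ⟨I, _, hI, d, e, φ, hφ⟩ := exists_mapDia hP f
  let α : d.D ⋙ P.ι ⟶ e.D ⋙ P.ι := Functor.whiskerRight φ P.ι
  let κ : I ⥤ C :=
    { obj := fun i => kernel (α.app i)
      map := fun {i j} g => kernel.map _ _ ((d.D ⋙ P.ι).map g) ((e.D ⋙ P.ι).map g) (α.naturality g).symm
      map_id := fun i => by rw [← cancel_mono (kernel.ι (α.app i))]; simp
      map_comp := fun {i j l} g g' => by rw [← cancel_mono (kernel.ι (α.app l))]; simp }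
  have hκ : ∀ i, P (κ.obj i) := fun i => P.prop_kernel _ (d.D.obj i).property (e.D.obj i).property
  let ι' : κ ⟶ d.D ⋙ P.ι :=
    { app := fun i => kernel.ι (α.app i), naturality := fun i j g => kernel.lift_ι _ _ _ }
  haveI : HasColimitsOfShape I C := inferInstance
  let tK : Cocone (d.D ⋙ P.ι) := { pt := M.obj, ι := d.t }
  let a := colimit.desc κ ((Cocone.precompose ι').obj tK)
  obtain ⟨w, ⟨hl⟩⟩ := kernel_colim ι' α (colimit.isColimit κ) d.hc e.hc a f.hom
    (fun j => colimit.ι_desc _ _) (fun j => (hφ j).symm) (fun j => kernel.condition _) (fun j => inferInstance)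
    (fun j => ShortComplex.exact_of_f_is_kernel _ (kernelIsKernel _))
  let K : (ObjectProperty.ind.{u} P).FullSubcategory :=
    ⟨colimit κ, I, inferInstance, hI, ⟨κ, (colimit.cocone κ).ι, colimit.isColimit κ⟩, hκ⟩
  refine ⟨K, ObjectProperty.homMk a, ObjectProperty.hom_ext _ w, I, inferInstance, hI,
    ⟨P.lift κ hκ, (colimit.cocone κ).ι, colimit.isColimit κ⟩, d, e,
    { app := fun i => ObjectProperty.homMk (ι'.app i), naturality := fun i j g => ObjectProperty.hom_ext _ (ι'.naturality g) },
    φ, fun i => (colimit.ι_desc ((Cocone.precompose ι').obj tK) i).symm, hφ, fun i => ⟨ObjectProperty.hom_ext _ (kernel.condition _), ⟨?_⟩⟩, w, ⟨hl⟩⟩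
  · exact isLimitOfReflects P.ι ((KernelFork.isLimitMapConeEquiv _ P.ι).symm (kernelIsKernel _))

/-- The cokernel of a morphism of filtered colimits is a filtered colimit. -/
theorem exists_cokernelDia [P.IsClosedUnderCokernels] {M N : (ObjectProperty.ind.{u} P).FullSubcategory} (f : M ⟶ N) :
    ∃ (Q : (ObjectProperty.ind.{u} P).FullSubcategory) (q : N ⟶ Q) (w : f ≫ q = 0)
      (I : Type u) (_ : SmallCategory I) (_ : IsFiltered I) (d : Dia P M I) (e : Dia P N I) (dQ : Dia P Q I)
      (φ : d.D ⟶ e.D) (χ : e.D ⟶ dQ.D),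
      (∀ i, (φ.app i).hom ≫ e.t.app i = d.t.app i ≫ f.hom) ∧
      (∀ i, (χ.app i).hom ≫ dQ.t.app i = e.t.app i ≫ q.hom) ∧
      (∀ i, ∃ w' : φ.app i ≫ χ.app i = 0,
        Nonempty (IsColimit (CokernelCofork.ofπ (f := φ.app i) (χ.app i) w'))) ∧
      ∃ w₀ : f.hom ≫ q.hom = 0, Nonempty (IsColimit (CokernelCofork.ofπ (f := f.hom) q.hom w₀)) := by
  obtain ⟨I, _, hI, d, e, φ, hφ⟩ := exists_mapDia hP f
  let α : d.D ⋙ P.ι ⟶ e.D ⋙ P.ι := Functor.whiskerRight φ P.ι
  let κ : I ⥤ C :=
    { obj := fun i => cokernel (α.app i)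
      map := fun {i j} g => cokernel.map _ _ ((d.D ⋙ P.ι).map g) ((e.D ⋙ P.ι).map g) (α.naturality g).symm
      map_id := fun i => by rw [← cancel_epi (cokernel.π (α.app i))]; simp
      map_comp := fun {i j l} g g' => by rw [← cancel_epi (cokernel.π (α.app i))]; simp }
  have hκ : ∀ i, P (κ.obj i) := fun i => P.prop_cokernel _ (d.D.obj i).property (e.D.obj i).property
  let π' : e.D ⋙ P.ι ⟶ κ :=
    { app := fun i => cokernel.π (α.app i), naturality := fun i j g => (cokernel.π_desc _ _ _).symm }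
  haveI : HasColimitsOfShape I C := inferInstance
  let b := e.hc.desc ((Cocone.precompose π').obj (colimit.cocone κ))
  have hb : ∀ i, e.t.app i ≫ b = π'.app i ≫ colimit.ι κ i := fun i =>
    e.hc.fac ((Cocone.precompose π').obj (colimit.cocone κ)) i
  obtain ⟨w, ⟨hl⟩⟩ := cokernel_colim α π' d.hc e.hc (colimit.isColimit κ) f.hom b
    (fun j => (hφ j).symm) hb (fun j => cokernel.condition _) (fun j => inferInstance)
    (fun j => ShortComplex.exact_of_g_is_cokernel _ (cokernelIsCokernel _))
  let Q : (ObjectProperty.ind.{u} P).FullSubcategory :=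
    ⟨colimit κ, I, inferInstance, hI, ⟨κ, (colimit.cocone κ).ι, colimit.isColimit κ⟩, hκ⟩
  refine ⟨Q, ObjectProperty.homMk b, ObjectProperty.hom_ext _ w, I, inferInstance, hI, d, e,
    ⟨P.lift κ hκ, (colimit.cocone κ).ι, colimit.isColimit κ⟩, φ,
    { app := fun i => ObjectProperty.homMk (π'.app i), naturality := fun i j g => ObjectProperty.hom_ext _ (π'.naturality g) },
    hφ, fun i => (hb i).symm, fun i => ⟨ObjectProperty.hom_ext _ (cokernel.condition _), ⟨?_⟩⟩, w, ⟨hl⟩⟩
  · exact isColimitOfReflects P.ι ((CokernelCofork.isColimitMapCoconeEquiv _ P.ι).symm (cokernelIsCokernel _))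

omit [AB5OfSize.{u, u} C] in
/-- Binary biproducts of filtered colimits are filtered colimits. -/
theorem ind_biprod [P.IsClosedUnderIsomorphisms] [P.IsClosedUnderFiniteProducts]
    {X Y : C} (hX : ObjectProperty.ind.{u} P X) (hY : ObjectProperty.ind.{u} P Y) :
    ObjectProperty.ind.{u} P (X ⊞ Y) := by
  obtain ⟨I, _, hI, d, e, _, -⟩ := exists_mapDia hP (M := ⟨X, hX⟩) (N := ⟨Y, hY⟩) 0
  let F : I ⥤ C :=
    { obj := fun i => (d.D.obj i).obj ⊞ (e.D.obj i).obj
      map := fun g => biprod.map (d.D.map g).hom (e.D.map g).hom }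
  let t : Cocone F :=
    { pt := X ⊞ Y
      ι :=
        { app := fun i => biprod.map (d.t.app i) (e.t.app i)
          naturality := fun i j g => by
            apply biprod.hom_ext' <;> simp [F, reassoc_of% (d.w g), reassoc_of% (e.w g)] } }
  have ht : IsColimit t := by
    let c₁ : ∀ s : Cocone F, Cocone (d.D ⋙ P.ι) := fun s =>
      { pt := s.pt
        ι :=
          { app := fun i => biprod.inl ≫ s.ι.app i
            naturality := fun i j g => by
              have := s.w g
              dsimp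
              rw [← this]
              simp [F] } }
    let c₂ : ∀ s : Cocone F, Cocone (e.D ⋙ P.ι) := fun s =>
      { pt := s.pt
        ι :=
          { app := fun i => biprod.inr ≫ s.ι.app i
            naturality := fun i j g => by
              have := s.w g
              dsimp
              rw [← this]
              simp [F] } }
    refine { desc := fun s => biprod.desc (d.hc.desc (c₁ s)) (e.hc.desc (c₂ s)), fac := fun s i => ?_, uniq := fun s m hm => ?_ }
    · apply biprod.hom_ext'
      · simpa [t, c₁] using d.hc.fac (c₁ s) i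
      · simpa [t, c₂] using e.hc.fac (c₂ s) i
    · apply biprod.hom_ext'
      · rw [biprod.inl_desc]
        refine d.hc.uniq (c₁ s) _ fun i => ?_
        simp [c₁, ← hm i, t]
      · rw [biprod.inr_desc]
        refine e.hc.uniq (c₂ s) _ fun i => ?_
        simp [c₂, ← hm i, t]
  refine ⟨I, inferInstance, hI, ⟨F, t.ι, ht⟩, fun i => ?_⟩
  exact P.prop_of_isLimit_binaryFan (BinaryBiproduct.isLimit _ _) (d.D.obj i).property (e.D.obj i).property

end Groth.L09.IndLan
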