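import Groth.Agent.L09.IndLan.Acc
import Groth.Agent.L09.IndLan.Exact

/-!
# Exactness of functors commuting with filtered colimits, from their restriction to finitely presentable objects
-/

set_option autoImplicit false
set_option linter.style.haveILetI false
set_option linter.unusedSectionVars false
set_option backward.isDefEq.respectTransparency false
set_option backward.isDefEq.respectTransparency.types false

universe v' u' u w

open CategoryTheory CategoryTheory.Limits

noncomputable section

namespace Groth.L09.IndLan.Acc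

variable {C : Type w} [Category.{u} C] {P : ObjectProperty C}
  (hP : ∀ c, P c → IsFinitelyPresentable.{u} c) (hgen : ∀ X : C, ObjectProperty.ind.{u} P X)
include hP hgen

/-- A morphism is the colimit of a diagram of morphisms. -/
theorem exists_mapPres {M N : C} (f : M ⟶ N) :
    ∃ (I : Type u) (_ : SmallCategory I) (_ : IsFiltered I) (p : ColimitPresentation I M) (q : ColimitPresentation I N)
      (φ : p.diag ⟶ q.diag), (∀ i, P (p.diag.obj i)) ∧ (∀ i, P (q.diag.obj i)) ∧
      ∀ i, φ.app i ≫ q.ι.app i = p.ι.app i ≫ f := by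
  obtain ⟨J₁, _, _, p₁, hp₁⟩ := hgen M
  obtain ⟨J₂, _, _, p₂, hp₂⟩ := hgen N
  haveI := toCA_final p₂ hp₂ hP
  let L : J₁ ⥤ CostructuredArrow P.ι N := toCA p₁ hp₁ ⋙ CostructuredArrow.map f
  exact ⟨Comma L (toCA p₂ hp₂), inferInstance, inferInstance, p₁.reindex (Comma.fst L _), p₂.reindex (Comma.snd L _),
    { app := fun x => x.hom.left.hom
      naturality := fun x y g => congrArg (fun t => InducedCategory.Hom.hom (CommaMorphism.left t)) g.w },
    fun x => hp₁ _, fun x => hp₂ _, fun x => CostructuredArrow.w x.hom⟩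

variable {B : Type u'} [Category.{v'} B] [Preadditive B] (F : C ⥤ B) [PreservesFilteredColimitsOfSize.{u, u} F]

/-- A functor additive on `P` commuting with filtered colimits is additive. -/
theorem additive [Preadditive C] [(P.ι ⋙ F).Additive] : F.Additive := by
  refine ⟨fun {M N} {f g} => ?_⟩
  obtain ⟨I, _, _, p, hp⟩ := hgen M
  obtain ⟨J, _, _, q, hq⟩ := hgen N
  refine (isColimitOfPreserves F p.isColimit).hom_ext fun i => ?_
  haveI := hP _ (hp i)
  obtain ⟨j, a, ha⟩ := IsFinitelyPresentable.exists_hom_of_isColimit q.isColimit (p.ι.app i ≫ f)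
  obtain ⟨j', b, hb⟩ := IsFinitelyPresentable.exists_hom_of_isColimit q.isColimit (p.ι.app i ≫ g)
  let k := IsFiltered.max j j'
  let a' := a ≫ q.diag.map (IsFiltered.leftToMax j j')
  let b' := b ≫ q.diag.map (IsFiltered.rightToMax j j')
  have ha' : a' ≫ q.ι.app k = p.ι.app i ≫ f := by rw [Category.assoc, p_w q]; exact ha
  have hb' : b' ≫ q.ι.app k = p.ι.app i ≫ g := by rw [Category.assoc, p_w q]; exact hb
  have hadd : F.map (a' + b') = F.map a' + F.map b' :=
    (P.ι ⋙ F).map_add (f := (ObjectProperty.homMk a' : (⟨_, hp i⟩ : P.FullSubcategory) ⟶ ⟨_, hq k⟩))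
      (g := ObjectProperty.homMk b')
  show F.map (p.ι.app i) ≫ F.map (f + g) = F.map (p.ι.app i) ≫ (F.map f + F.map g)
  rw [Preadditive.comp_add, ← F.map_comp, ← F.map_comp, ← F.map_comp, Preadditive.comp_add, ← ha', ← hb',
    ← Preadditive.add_comp, F.map_comp (a' + b'), hadd, Preadditive.add_comp, F.map_comp a', F.map_comp b']

variable [Abelian C] [HasFilteredColimitsOfSize.{u, u} C]

/-- A functor right exact on `P` commuting with filtered colimits preserves cokernels. -/
theorem preserves_cokernel [F.PreservesZeroMorphisms] [P.IsClosedUnderCokernels]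
    (hF : ∀ {c d : P.FullSubcategory} (g : c ⟶ d), PreservesColimit (parallelPair g 0) (P.ι ⋙ F))
    {M N : C} (f : M ⟶ N) : PreservesColimit (parallelPair f 0) F := by
  obtain ⟨I, _, hI, p, q, φ, hp, hq, hφ⟩ := exists_mapPres hP hgen f
  haveI : HasColimitsOfShape I C := inferInstance
  let κ : I ⥤ C :=
    { obj := fun i => cokernel (φ.app i)
      map := fun {i j} g => cokernel.map _ _ (p.diag.map g) (q.diag.map g) (φ.naturality g).symm
      map_id := fun i => by rw [← cancel_epi (cokernel.π (φ.app i))]; simp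
      map_comp := fun {i j l} g g' => by rw [← cancel_epi (cokernel.π (φ.app i))]; simp }
  let π : ∀ i, q.diag.obj i ⟶ κ.obj i := fun i => cokernel.π (φ.app i)
  have hπ : ∀ {i j : I} (g : i ⟶ j), q.diag.map g ≫ π j = π i ≫ κ.map g := fun g => (cokernel.π_desc _ _ _).symm
  let b := q.isColimit.desc ({ pt := colimit κ, ι :=
    { app := fun i => π i ≫ colimit.ι κ i
      naturality := fun i j g => by
        refine Eq.trans ?_ (Category.comp_id _).symm
        rw [← Category.assoc, hπ, Category.assoc, colimit.w] } } : Cocone q.diag)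
  have hb : ∀ i, q.ι.app i ≫ b = π i ≫ colimit.ι κ i := fun i => q.isColimit.fac _ i
  have hz : f ≫ b = 0 := p.isColimit.hom_ext fun i => by
    show p.ι.app i ≫ f ≫ b = p.ι.app i ≫ 0
    rw [← Category.assoc, ← hφ i, Category.assoc, hb, cokernel.condition_assoc, zero_comp, comp_zero]
  have hl : IsColimit (CokernelCofork.ofπ (f := f) b hz) := by
    have hs : ∀ (s : CokernelCofork f) (i : I), φ.app i ≫ q.ι.app i ≫ s.π = 0 := fun s i => by
      rw [← Category.assoc, hφ, Category.assoc, s.condition, comp_zero]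
    let d : ∀ s : CokernelCofork f, Cocone κ := fun s =>
      { pt := s.pt
        ι :=
          { app := fun i => cokernel.desc _ (q.ι.app i ≫ s.π) (hs s i)
            naturality := fun i j g => by
              refine Eq.trans ?_ (Category.comp_id _).symm
              rw [← cancel_epi (cokernel.π (φ.app i)), ← Category.assoc,
                show cokernel.π (φ.app i) ≫ κ.map g = q.diag.map g ≫ π j from (hπ g).symm, Category.assoc,
                cokernel.π_desc, cokernel.π_desc, ← Category.assoc, p_w q] } }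
    haveI : Epi b := ⟨fun {Z} u v huv => colimit.hom_ext fun i => (cancel_epi (cokernel.π (φ.app i))).1 (by
      show π i ≫ _ ≫ u = π i ≫ _ ≫ v
      rw [← Category.assoc, ← Category.assoc, ← hb, Category.assoc, Category.assoc, huv])⟩
    refine CokernelCofork.IsColimit.ofπ' b hz fun {Z} k hk => ⟨colimit.desc κ (d (CokernelCofork.ofπ k hk)), ?_⟩
    exact q.isColimit.hom_ext fun i => by
      show q.ι.app i ≫ b ≫ _ = q.ι.app i ≫ k
      rw [← Category.assoc, hb, Category.assoc, colimit.ι_desc]
      exact cokernel.π_desc _ _ _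
  refine preservesColimit_of_preserves_colimit_cocone hl ((CokernelCofork.isColimitMapCoconeEquiv _ _).symm ?_)
  have hstage : ∀ i, IsColimit (CokernelCofork.ofπ (f := F.map (φ.app i)) (F.map (π i))
      (by rw [← F.map_comp, cokernel.condition, F.map_zero])) := fun i => by
    let c : P.FullSubcategory := ⟨_, hp i⟩
    let d : P.FullSubcategory := ⟨_, hq i⟩
    let k : P.FullSubcategory := ⟨κ.obj i, P.prop_cokernel _ (hp i) (hq i)⟩
    let g : c ⟶ d := ObjectProperty.homMk (φ.app i)
    let g' : d ⟶ k := ObjectProperty.homMk (π i)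
    have w : g ≫ g' = 0 := ObjectProperty.hom_ext _ (cokernel.condition _)
    have hk : IsColimit (CokernelCofork.ofπ g' w) :=
      isColimitOfReflects P.ι ((CokernelCofork.isColimitMapCoconeEquiv _ P.ι).symm (cokernelIsCokernel _))
    haveI := hF g
    exact (CokernelCofork.isColimitMapCoconeEquiv (CokernelCofork.ofπ g' w) (P.ι ⋙ F)) (isColimitOfPreserves (P.ι ⋙ F) hk)
  have hbF : ∀ i, F.map (q.ι.app i) ≫ F.map b = F.map (π i) ≫ F.map (colimit.ι κ i) := fun i => by
    rw [← F.map_comp, ← F.map_comp, hb]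
  have hcκ := isColimitOfPreserves F (colimit.isColimit κ)
  haveI : Epi (F.map b) := ⟨fun {Z} u v huv => hcκ.hom_ext fun i => Cofork.IsColimit.hom_ext (hstage i) (by
    show F.map (π i) ≫ F.map (colimit.ι κ i) ≫ u = F.map (π i) ≫ F.map (colimit.ι κ i) ≫ v
    rw [← Category.assoc, ← Category.assoc, ← hbF, Category.assoc, Category.assoc, huv])⟩
  have hs : ∀ {Z : B} (k : F.obj N ⟶ Z), F.map f ≫ k = 0 → ∀ i, F.map (φ.app i) ≫ F.map (q.ι.app i) ≫ k = 0 :=
    fun k hk i => by rw [← F.map_comp_assoc, hφ, F.map_comp_assoc, hk, comp_zero]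
  refine CokernelCofork.IsColimit.ofπ' (F.map b) (by rw [← F.map_comp, hz, F.map_zero]) fun {Z} k hk => ?_
  let D : ∀ i, {l : F.obj (κ.obj i) ⟶ Z // F.map (π i) ≫ l = F.map (q.ι.app i) ≫ k} := fun i =>
    CokernelCofork.IsColimit.desc' (hstage i) _ (hs k hk i)
  let dF : Cocone (κ ⋙ F) :=
    { pt := Z
      ι :=
        { app := fun i => (D i).1
          naturality := fun i j g => by
            refine Eq.trans ?_ (Category.comp_id _).symm
            refine Cofork.IsColimit.hom_ext (hstage i) ?_
            show F.map (π i) ≫ F.map (κ.map g) ≫ (D j).1 = F.map (π i) ≫ (D i).1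
            rw [← F.map_comp_assoc, ← hπ, F.map_comp_assoc, (D j).2, ← F.map_comp_assoc, p_w q, (D i).2] } }
  refine ⟨hcκ.desc dF, (isColimitOfPreserves F q.isColimit).hom_ext fun i => ?_⟩
  show F.map (q.ι.app i) ≫ F.map b ≫ _ = F.map (q.ι.app i) ≫ k
  rw [← Category.assoc, hbF, Category.assoc]
  exact (congrArg _ (hcκ.fac dF i)).trans (D i).2

/-- A functor left exact on `P` commuting with filtered colimits preserves kernels. -/
theorem preserves_kernel [AB5OfSize.{u, u} C] [HasFilteredColimitsOfSize.{u, u} B] [F.PreservesZeroMorphisms]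
    [P.IsClosedUnderKernels]
    (hF : ∀ {c d : P.FullSubcategory} (g : c ⟶ d), PreservesLimit (parallelPair g 0) (P.ι ⋙ F))
    (hcomm : ∀ (I : Type u) [SmallCategory I] [IsFiltered I],
      PreservesLimitsOfShape WalkingParallelPair (colim : (I ⥤ B) ⥤ B))
    {M N : C} (f : M ⟶ N) : PreservesLimit (parallelPair f 0) F := by
  obtain ⟨I, _, hI, p, q, φ, hp, hq, hφ⟩ := exists_mapPres hP hgen f
  haveI : HasColimitsOfShape I C := inferInstance
  haveI : HasColimitsOfShape I B := inferInstance
  let κ : I ⥤ C :=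
    { obj := fun i => kernel (φ.app i)
      map := fun {i j} g => kernel.map _ _ (p.diag.map g) (q.diag.map g) (φ.naturality g).symm
      map_id := fun i => by rw [← cancel_mono (kernel.ι (φ.app i))]; simp
      map_comp := fun {i j l} g g' => by rw [← cancel_mono (kernel.ι (φ.app l))]; simp }
  let χ : κ ⟶ p.diag := { app := fun i => kernel.ι (φ.app i), naturality := fun i j g => kernel.lift_ι _ _ _ }
  let a := colimit.desc κ ((Cocone.precompose χ).obj p.cocone)
  obtain ⟨w, ⟨hl⟩⟩ := Groth.L09.IndLan.kernel_colim χ φ (colimit.isColimit κ) p.isColimit q.isColimit a f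
    (fun j => colimit.ι_desc _ _) (fun j => (hφ j).symm) (fun j => kernel.condition _) (fun j => inferInstance)
    (fun j => ShortComplex.exact_of_f_is_kernel _ (kernelIsKernel _))
  refine preservesLimit_of_preserves_limit_cone hl ((KernelFork.isLimitMapConeEquiv _ _).symm ?_)
  let χF := Functor.whiskerRight χ F
  let φF := Functor.whiskerRight φ F
  have w' : χF ≫ φF = 0 := by
    ext i
    show F.map (χ.app i) ≫ F.map (φ.app i) = 0
    rw [← F.map_comp, show χ.app i ≫ φ.app i = 0 from kernel.condition _, F.map_zero]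
  have hfork : IsLimit (KernelFork.ofι χF w') := by
    refine evaluationJointlyReflectsLimits _ fun i => (KernelFork.isLimitMapConeEquiv _ _).symm ?_
    let c : P.FullSubcategory := ⟨_, hp i⟩
    let d : P.FullSubcategory := ⟨_, hq i⟩
    let k : P.FullSubcategory := ⟨κ.obj i, P.prop_kernel _ (hp i) (hq i)⟩
    let g : c ⟶ d := ObjectProperty.homMk (φ.app i)
    let g' : k ⟶ c := ObjectProperty.homMk (χ.app i)
    have wk : g' ≫ g = 0 := ObjectProperty.hom_ext _ (kernel.condition _)
    have hk : IsLimit (KernelFork.ofι g' wk) :=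
      isLimitOfReflects P.ι ((KernelFork.isLimitMapConeEquiv _ P.ι).symm (kernelIsKernel _))
    haveI := hF g
    exact (KernelFork.isLimitMapConeEquiv (KernelFork.ofι g' wk) (P.ι ⋙ F)) (isLimitOfPreserves (P.ι ⋙ F) hk)
  haveI := hcomm I
  haveI : (colim : (I ⥤ B) ⥤ B).Additive :=
    ⟨fun {X Y} {u v} => colimit.hom_ext fun i => by simp [Preadditive.comp_add]⟩
  have h2 := (KernelFork.isLimitMapConeEquiv _ (colim : (I ⥤ B) ⥤ B)) (isLimitOfPreserves colim hfork)
  let eK := (colimit.isColimit (κ ⋙ F)).coconePointUniqueUpToIso (isColimitOfPreserves F (colimit.isColimit κ))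
  let eM := (colimit.isColimit (p.diag ⋙ F)).coconePointUniqueUpToIso (isColimitOfPreserves F p.isColimit)
  let eN := (colimit.isColimit (q.diag ⋙ F)).coconePointUniqueUpToIso (isColimitOfPreserves F q.isColimit)
  have hsq₁ : colim.map χF ≫ eM.hom = eK.hom ≫ F.map a := colimit.hom_ext fun i => by
    show colimit.ι (κ ⋙ F) i ≫ colimMap χF ≫ eM.hom = colimit.ι (κ ⋙ F) i ≫ eK.hom ≫ F.map a
    rw [ι_colimMap_assoc, ← Category.assoc (colimit.ι (κ ⋙ F) i) eK.hom]
    dsimp only [eK, eM, eN]
    erw [IsColimit.comp_coconePointUniqueUpToIso_hom, IsColimit.comp_coconePointUniqueUpToIso_hom]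
    show F.map (χ.app i) ≫ F.map (p.ι.app i) = F.map (colimit.ι κ i) ≫ F.map a
    rw [← F.map_comp, ← F.map_comp]
    exact congrArg F.map (colimit.ι_desc ((Cocone.precompose χ).obj p.cocone) i).symm
  have hsq₂ : colim.map φF ≫ eN.hom = eM.hom ≫ F.map f := colimit.hom_ext fun i => by
    show colimit.ι (p.diag ⋙ F) i ≫ colimMap φF ≫ eN.hom = colimit.ι (p.diag ⋙ F) i ≫ eM.hom ≫ F.map f
    rw [ι_colimMap_assoc, ← Category.assoc (colimit.ι (p.diag ⋙ F) i) eM.hom]
    dsimp only [eK, eM, eN]
    erw [IsColimit.comp_coconePointUniqueUpToIso_hom, IsColimit.comp_coconePointUniqueUpToIso_hom]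
    show F.map (φ.app i) ≫ F.map (q.ι.app i) = F.map (p.ι.app i) ≫ F.map f
    rw [← F.map_comp, ← F.map_comp, hφ]
  exact IsLimit.ofIsoLimit ((IsLimit.postcomposeHomEquiv
    (parallelPair.ext eM eN hsq₂ (by simp)) _).symm h2) (Fork.ext eK (hsq₁.symm.trans rfl))

variable [HasFiniteBiproducts B]

/-- An additive functor commuting with filtered colimits preserves coproducts. -/
theorem preserves_coproducts [F.Additive] (J : Type u) : PreservesColimitsOfShape (Discrete J) F := by
  haveI : HasColimitsOfShape (Finset (Discrete J)) C := inferInstance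
  haveI : HasFiniteCoproducts C := inferInstance
  haveI : PreservesFiniteBiproducts F := inferInstance
  refine ⟨fun {K} => preservesColimit_of_preserves_colimit_cocone
    ((CoproductsFromFiniteFiltered.liftToFinsetColimitCocone K).isColimit) ?_⟩
  let T := CoproductsFromFiniteFiltered.liftToFinsetObj K
  have hS : ∀ S : Finset (Discrete J), IsColimit (F.mapCocone (colimit.cocone (Discrete.functor fun x : { x // x ∈ S } => K.obj x.1))) :=
    fun S => isColimitOfPreserves F (colimit.isColimit _)
  have hT := isColimitOfPreserves F (colimit.isColimit T)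
  let D : ∀ (s : Cocone (K ⋙ F)) (S : Finset (Discrete J)),
      {l : F.obj (T.obj S) ⟶ s.pt // ∀ x : { x // x ∈ S }, F.map (Sigma.ι (fun y : { x // x ∈ S } => K.obj y.1) x) ≫ l = s.ι.app x.1} :=
    fun s S => ⟨(hS S).desc ⟨s.pt, Discrete.natTrans fun x => s.ι.app x.as.1⟩,
      fun x => (hS S).fac ⟨s.pt, Discrete.natTrans fun x => s.ι.app x.as.1⟩ ⟨x⟩⟩
  let dS : ∀ s : Cocone (K ⋙ F), Cocone (T ⋙ F) := fun s =>
    { pt := s.pt
      ι :=
        { app := fun S => (D s S).1
          naturality := fun S S' h => by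
            refine (hS S).hom_ext fun x => ?_
            obtain ⟨x⟩ := x
            show F.map (Sigma.ι (fun y : { x // x ∈ S } => K.obj y.1) x) ≫ F.map (T.map h) ≫ (D s S').1 =
              F.map (Sigma.ι (fun y : { x // x ∈ S } => K.obj y.1) x) ≫ (D s S).1 ≫ 𝟙 _
            rw [Category.comp_id, (D s S).2, ← F.map_comp_assoc]
            simp only [T, CoproductsFromFiniteFiltered.liftToFinsetObj, colimit.ι_desc, Cofan.mk_ι_app]
            exact (D s S').2 ⟨x.1, _⟩ } }
  refine { desc := fun s => hT.desc (dS s), fac := fun s j => ?_, uniq := fun s e he => ?_ }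
  · show F.map (Sigma.ι (fun y : { x // x ∈ ({j} : Finset (Discrete J)) } => K.obj y.1) ⟨j, by simp⟩ ≫
      colimit.ι T {j}) ≫ hT.desc (dS s) = s.ι.app j
    rw [F.map_comp, Category.assoc]
    exact (congrArg _ (hT.fac (dS s) {j})).trans ((D s {j}).2 ⟨j, by simp⟩)
  · refine hT.uniq (dS s) e fun S => (hS S).hom_ext fun x => ?_
    obtain ⟨x⟩ := x
    show F.map (Sigma.ι (fun y : { x // x ∈ S } => K.obj y.1) x) ≫ F.map (colimit.ι T S) ≫ e =
      F.map (Sigma.ι (fun y : { x // x ∈ S } => K.obj y.1) x) ≫ (D s S).1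
    rw [(D s S).2, ← he x.1, ← F.map_comp_assoc]
    refine congrArg (fun t => F.map t ≫ e) ?_
    have h : ({x.1} : Finset (Discrete J)) ⊆ S := Finset.singleton_subset_iff.2 x.2
    rw [show colimit.ι T S = colimit.ι T S from rfl]
    show _ = Sigma.ι (fun y : { y // y ∈ ({x.1} : Finset (Discrete J)) } => K.obj y.1) ⟨x.1, by simp⟩ ≫ colimit.ι T {x.1}
    rw [← colimit.w T (homOfLE h), ← Category.assoc]
    simp [T, CoproductsFromFiniteFiltered.liftToFinsetObj]

end Groth.L09.IndLan.Acc
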