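import Groth.Agent.L09.IndLan.ModFpClosed

/-!
# Natural transformations of right exact functors on finitely presented modules
-/

set_option autoImplicit false
set_option linter.style.haveILetI false
set_option backward.isDefEq.respectTransparency false
set_option backward.isDefEq.respectTransparency.types false

universe v' u' v w u

open CategoryTheory CategoryTheory.Limits

noncomputable section

namespace Groth.L09.IndLan.FpHom

variable {C : Type w} [Category.{v} C] [Preadditive C] (a : C)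

/-- Every object is the cokernel of a map between finite powers of `a`. -/
def HasPres : Prop :=
  ∀ M : C, ∃ (N K : C) (n k : ℕ) (p : Fin n → (N ⟶ a)) (ι : Fin n → (a ⟶ N)) (q : Fin k → (K ⟶ a))
    (j : Fin k → (a ⟶ K)) (d : K ⟶ N) (π : N ⟶ M) (w : d ≫ π = 0),
    (∑ i, p i ≫ ι i = 𝟙 N) ∧ (∑ i, q i ≫ j i = 𝟙 K) ∧ Nonempty (IsColimit (CokernelCofork.ofπ π w)) ∧
      ∀ x : a ⟶ M, ∃ x' : a ⟶ N, x' ≫ π = x

variable {a} (hpres : HasPres a) {B : Type u'} [Category.{v'} B] [Preadditive B] (F F' : C ⥤ B)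
  [F.Additive] [F'.Additive] [PreservesFiniteColimits F]

include hpres in
theorem hom_ext {M : C} {Z : B} (u v : F.obj M ⟶ Z) (h : ∀ x : a ⟶ M, F.map x ≫ u = F.map x ≫ v) : u = v := by
  obtain ⟨N, K, n, k, p, ι, q, j, d, π, w, hp, -, ⟨hc⟩, -⟩ := hpres M
  haveI : Epi (F.map π) :=
    Cofork.IsColimit.epi ((CokernelCofork.isColimitMapCoconeEquiv _ F) (isColimitOfPreserves F hc))
  rw [← cancel_epi (F.map π)]
  have key : ∀ t : F.obj M ⟶ Z, F.map π ≫ t = ∑ i, F.map (p i) ≫ F.map (ι i ≫ π) ≫ t := fun t => by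
    conv_lhs => rw [← Category.id_comp π, ← hp, Preadditive.sum_comp, F.map_sum, Preadditive.sum_comp]
    simp
  rw [key u, key v]
  refine Finset.sum_congr rfl fun i _ => congrArg _ ?_
  exact h (ι i ≫ π)

include hpres in
theorem exists_component (φ : F.obj a ⟶ F'.obj a) (hφ : ∀ x : a ⟶ a, F.map x ≫ φ = φ ≫ F'.map x) (M : C) :
    ∃ ψ : F.obj M ⟶ F'.obj M, ∀ x : a ⟶ M, F.map x ≫ ψ = φ ≫ F'.map x := by
  obtain ⟨N, K, n, k, p, ι, q, j, d, π, w, hp, hq, ⟨hc⟩, hlift⟩ := hpres M
  let ψ₀ : F.obj N ⟶ F'.obj M := ∑ i, F.map (p i) ≫ φ ≫ F'.map (ι i ≫ π)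
  have h₀ : ∀ x : a ⟶ N, F.map x ≫ ψ₀ = φ ≫ F'.map (x ≫ π) := fun x => by
    conv_rhs => rw [← Category.comp_id x, ← hp]
    simp only [ψ₀, Preadditive.comp_sum, Preadditive.sum_comp, Functor.map_sum, ← F.map_comp_assoc]
    refine Finset.sum_congr rfl fun i _ => ?_
    rw [reassoc_of% hφ (x ≫ p i), ← F'.map_comp]
    simp only [Category.assoc]
  have hd : F.map d ≫ ψ₀ = 0 := by
    rw [← Category.id_comp d, ← hq, Preadditive.sum_comp, F.map_sum, Preadditive.sum_comp]
    refine Finset.sum_eq_zero fun i _ => ?_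
    rw [Category.assoc, F.map_comp, Category.assoc, h₀, Category.assoc, w, comp_zero, F'.map_zero, comp_zero, comp_zero]
  obtain ⟨ψ, hψ⟩ := CokernelCofork.IsColimit.desc'
    ((CokernelCofork.isColimitMapCoconeEquiv _ F) (isColimitOfPreserves F hc)) ψ₀ hd
  have hψ' : F.map π ≫ ψ = ψ₀ := hψ
  refine ⟨ψ, fun x => ?_⟩
  obtain ⟨x', rfl⟩ := hlift x
  rw [F.map_comp, Category.assoc, hψ', h₀]

include hpres in
/-- A map of values at `a` compatible with the endomorphisms of `a` extends to a natural transformation. -/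
theorem exists_natTrans (φ : F.obj a ⟶ F'.obj a) (hφ : ∀ x : a ⟶ a, F.map x ≫ φ = φ ≫ F'.map x) :
    ∃ t : F ⟶ F', t.app a = φ := by
  choose ψ hψ using exists_component hpres F F' φ hφ
  refine ⟨{ app := ψ, naturality := fun M M' f => hom_ext hpres F _ _ fun x => ?_ }, hom_ext hpres F _ _ fun x => ?_⟩
  · rw [← F.map_comp_assoc, hψ, ← Category.assoc, hψ, Category.assoc, F'.map_comp]
  · show F.map x ≫ ψ a = F.map x ≫ φ
    rw [hψ, hφ]

omit [F'.Additive] in
include hpres in
/-- A natural transformation is determined by its value at `a`. -/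
theorem natTrans_ext (t t' : F ⟶ F') (h : t.app a = t'.app a) : t = t' :=
  NatTrans.ext (funext fun M => hom_ext hpres F _ _ fun x => by rw [t.naturality, t'.naturality, h])

variable (A : Type u) [CommRing A]

/-- Finitely presented modules have presentations by finite free modules. -/
theorem hasPres_fp : HasPres (C := (fpMod A).FullSubcategory) ⟨ModuleCat.of A A, inferInstance⟩ := by
  intro M
  haveI : Module.FinitePresentation A M.obj := M.property
  obtain ⟨n, π, hπ⟩ := Module.Finite.exists_fin' A M.obj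
  obtain ⟨k, r, hr⟩ := Submodule.fg_iff_exists_fin_generating_family.1 (Module.FinitePresentation.fg_ker π hπ)
  let d : (Fin k → A) →ₗ[A] (Fin n → A) := Fintype.linearCombination A r
  have hd : LinearMap.range d = LinearMap.ker π := by rw [Fintype.range_linearCombination, hr]
  let Pw : ℕ → (fpMod A).FullSubcategory := fun l => ⟨ModuleCat.of A (Fin l → A), show Module.FinitePresentation A _ from inferInstance⟩
  let d' : Pw k ⟶ Pw n := ObjectProperty.homMk (ModuleCat.ofHom d)
  let π' : Pw n ⟶ M := ObjectProperty.homMk (ModuleCat.ofHom π)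
  have w : d' ≫ π' = 0 := ObjectProperty.hom_ext _ (ModuleCat.hom_ext (LinearMap.ext fun v =>
    (hd ▸ LinearMap.mem_range_self d v : d v ∈ LinearMap.ker π)))
  have hid : ∀ l, ∑ i : Fin l, (ObjectProperty.homMk (ModuleCat.ofHom (LinearMap.proj i)) : Pw l ⟶ ⟨ModuleCat.of A A, inferInstance⟩) ≫
      ObjectProperty.homMk (ModuleCat.ofHom (LinearMap.single A (fun _ : Fin l => A) i)) = 𝟙 (Pw l) := fun l => by
    refine (fpMod A).ι.map_injective ?_
    rw [Functor.map_sum]
    refine ModuleCat.hom_ext (LinearMap.ext fun v => ?_)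
    simp only [ModuleCat.hom_sum, LinearMap.sum_apply]
    exact Finset.univ_sum_single v
  refine ⟨Pw n, Pw k, n, k, _, _, _, _, d', π', w, hid n, hid k, ⟨?_⟩, fun x => ?_⟩
  · refine isColimitOfReflects (fpMod A).ι ((CokernelCofork.isColimitMapCoconeEquiv _ (fpMod A).ι).symm ?_)
    haveI : Epi ((fpMod A).ι.map (Cofork.π (CokernelCofork.ofπ π' w))) := (ModuleCat.epi_iff_surjective _).2 hπ
    refine CokernelCofork.IsColimit.ofπ' _ (by rw [← Functor.map_comp]; exact (congrArg _ w).trans ((fpMod A).ι.map_zero _ _)) fun {Z} g hg => ?_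
    have hle : LinearMap.ker π ≤ LinearMap.ker (ModuleCat.Hom.hom g) := by
      rw [← hd]
      rintro _ ⟨v, rfl⟩
      exact LinearMap.congr_fun (congrArg ModuleCat.Hom.hom hg) v
    refine ⟨ModuleCat.ofHom (((LinearMap.ker π).liftQ (ModuleCat.Hom.hom g) hle).comp
      (π.quotKerEquivOfSurjective hπ).symm.toLinearMap), ModuleCat.hom_ext (LinearMap.ext fun v => ?_)⟩
    show (LinearMap.ker π).liftQ (ModuleCat.Hom.hom g) hle ((π.quotKerEquivOfSurjective hπ).symm (π v)) = _
    rw [show (π.quotKerEquivOfSurjective hπ).symm (π v) = Submodule.Quotient.mk v from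
      (π.quotKerEquivOfSurjective hπ).symm_apply_eq.2 rfl]
    rfl
  · let m : A →ₗ[A] M.obj := x.hom.hom
    obtain ⟨v, hv⟩ := hπ (m 1)
    refine ⟨ObjectProperty.homMk (ModuleCat.ofHom (LinearMap.toSpanSingleton A _ v)), ?_⟩
    refine ObjectProperty.hom_ext _ (ModuleCat.hom_ext (LinearMap.ext_ring ?_))
    show π ((1 : A) • v) = m 1
    rw [one_smul, hv]

end Groth.L09.IndLan.FpHom
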