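import Groth.Agent.L09.IndLan.Exact

/-!
# The left Kan extension of an exact functor to small filtered colimits is exact
-/

set_option autoImplicit false
set_option linter.style.haveILetI false
set_option linter.unusedSectionVars false
set_option backward.isDefEq.respectTransparency false
set_option backward.isDefEq.respectTransparency.types false

universe v' u' u w

open CategoryTheory CategoryTheory.Limits

noncomputable section

namespace Groth.L09.IndLan

variable {C : Type w} [Category.{u} C] [Abelian C] [HasFilteredColimitsOfSize.{u, u} C] [AB5OfSize.{u, u} C]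
  {P : ObjectProperty C} (hP : ∀ c, P c → IsFinitelyPresentable.{u} c)
  [P.ContainsZero] [P.IsClosedUnderKernels] [P.IsClosedUnderCokernels] [P.IsClosedUnderFiniteProducts]
  {A' : Type u'} [Category.{v'} A'] [Abelian A'] [HasFilteredColimitsOfSize.{u, u} A'] [AB5OfSize.{u, u} A']
  (G : P.FullSubcategory ⥤ A') [PreservesFiniteLimits G] [PreservesFiniteColimits G]
  [(inc P).HasPointwiseLeftKanExtension G]

theorem additive_G : G.Additive := by
  haveI : G.PreservesZeroMorphisms := Functor.preservesZeroMorphisms_of_map_zero_object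
    (IsZero.iso (IsTerminal.isZero (HasZeroObject.zeroIsTerminal.isTerminalObj G _)) (isZero_zero _))
  exact Functor.additive_of_preserves_binary_products G

set_option quotPrecheck false in
local notation "Lan" => (inc P).pointwiseLeftKanExtension G

omit [P.ContainsZero] [P.IsClosedUnderKernels] [P.IsClosedUnderCokernels] [P.IsClosedUnderFiniteProducts]
  [Abelian A'] [HasFilteredColimitsOfSize.{u, u} A'] [AB5OfSize.{u, u} A'] [PreservesFiniteLimits G]
  [PreservesFiniteColimits G] in
theorem lan_square {I : Type u} [SmallCategory I] {M N : (ObjectProperty.ind.{u} P).FullSubcategory}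
    (d : Dia P M I) (e : Dia P N I) {f : M ⟶ N} {i : I} {g : d.D.obj i ⟶ e.D.obj i}
    (h : g.hom ≫ e.t.app i = d.t.app i ≫ f.hom) :
    (d.lanCocone G).ι.app i ≫ (Lan).map f = G.map g ≫ (e.lanCocone G).ι.app i := by
  have h' : d.leg i ≫ f = (inc P).map g ≫ e.leg i := ObjectProperty.hom_ext _ h.symm
  show (((inc P).pointwiseLeftKanExtensionUnit G).app _ ≫ (Lan).map (d.leg i)) ≫ (Lan).map f =
    G.map g ≫ ((inc P).pointwiseLeftKanExtensionUnit G).app _ ≫ (Lan).map (e.leg i)
  rw [Category.assoc, ← Functor.map_comp, h', Functor.map_comp, ← Category.assoc, ← Category.assoc]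
  exact congrArg (fun t => t ≫ (Lan).map (e.leg i))
    (((inc P).pointwiseLeftKanExtensionUnit G).naturality g).symm

include hP

theorem additive_lan : (Lan).Additive := by
  haveI := additive_G G
  refine ⟨fun {M N} {f g} => ?_⟩
  obtain ⟨I, _, _, ⟨d⟩⟩ := exists_dia M
  obtain ⟨J, _, _, ⟨e⟩⟩ := exists_dia N
  obtain ⟨hd⟩ := d.isColimit_lanCocone hP G
  refine hd.hom_ext fun i => ?_
  obtain ⟨j, u, hu⟩ := e.exists_fac hP (d.t.app i ≫ f.hom)
  obtain ⟨j', v, hv⟩ := e.exists_fac hP (d.t.app i ≫ g.hom)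
  let k := IsFiltered.max j j'
  let a := u ≫ e.D.map (IsFiltered.leftToMax j j')
  let b := v ≫ e.D.map (IsFiltered.rightToMax j j')
  have ha : a.hom ≫ e.t.app k = d.t.app i ≫ f.hom := by rw [← hu, ← e.w (IsFiltered.leftToMax j j')]; simp [a, k]
  have hb : b.hom ≫ e.t.app k = d.t.app i ≫ g.hom := by rw [← hv, ← e.w (IsFiltered.rightToMax j j')]; simp [b, k]
  have key : ∀ (m : M ⟶ N) (c : d.D.obj i ⟶ e.D.obj k), c.hom ≫ e.t.app k = d.t.app i ≫ m.hom →
      (d.lanCocone G).ι.app i ≫ (Lan).map m = G.map c ≫ (e.lanCocone G).ι.app k := fun m c hc => by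
    have h' : d.leg i ≫ m = (inc P).map c ≫ e.leg k := ObjectProperty.hom_ext _ hc.symm
    show (((inc P).pointwiseLeftKanExtensionUnit G).app _ ≫ (Lan).map (d.leg i)) ≫ (Lan).map m =
      G.map c ≫ ((inc P).pointwiseLeftKanExtensionUnit G).app _ ≫ (Lan).map (e.leg k)
    rw [Category.assoc, ← Functor.map_comp, h', Functor.map_comp, ← Category.assoc, ← Category.assoc]
    exact congrArg (fun t => t ≫ (Lan).map (e.leg k))
      (((inc P).pointwiseLeftKanExtensionUnit G).naturality c).symm
  rw [key (f + g) (a + b) ((Preadditive.add_comp _ _ _ _ _ _).trans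
      ((congrArg₂ (· + ·) ha hb).trans (Preadditive.comp_add _ _ _ _ _ _).symm)),
    Functor.map_add, Preadditive.add_comp, Preadditive.comp_add, key f a ha, key g b hb]

theorem preserves_kernel {M N : (ObjectProperty.ind.{u} P).FullSubcategory} (f : M ⟶ N) :
    PreservesLimit (parallelPair f 0) (Lan) := by
  haveI := additive_G G
  haveI := additive_lan hP G
  obtain ⟨K, k, w, I, _, _, dK, d, e, χ, φ, hχ, hφ, hker, w₀, ⟨hk₀⟩⟩ := exists_kernelDia hP f
  let hk : IsLimit (KernelFork.ofι (f := f) k w) :=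
    isLimitOfReflects (ObjectProperty.ind.{u} P).ι ((KernelFork.isLimitMapConeEquiv _ _).symm hk₀)
  obtain ⟨h₁⟩ := dK.isColimit_lanCocone hP G
  obtain ⟨h₂⟩ := d.isColimit_lanCocone hP G
  obtain ⟨h₃⟩ := e.isColimit_lanCocone hP G
  choose w' hl using hker
  let KG : ∀ i, IsLimit (KernelFork.ofι (f := G.map (φ.app i)) (G.map (χ.app i))
      (by rw [← G.map_comp, w' i, G.map_zero])) := fun i =>
    isLimitForkMapOfIsLimit' G (w' i) (hl i).some
  obtain ⟨w'', ⟨hL⟩⟩ := kernel_colim (Functor.whiskerRight χ G) (Functor.whiskerRight φ G) h₁ h₂ h₃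
    ((Lan).map k) ((Lan).map f) (fun i => lan_square G dK d (hχ i)) (fun i => lan_square G d e (hφ i))
    (fun i => by show G.map _ ≫ G.map _ = 0; rw [← G.map_comp, w' i, G.map_zero])
    (fun i => Fork.IsLimit.mono (KG i)) (fun i => ShortComplex.exact_of_f_is_kernel _ (KG i))
  exact preservesLimit_of_preserves_limit_cone hk ((KernelFork.isLimitMapConeEquiv _ _).symm hL)

theorem preserves_cokernel {M N : (ObjectProperty.ind.{u} P).FullSubcategory} (f : M ⟶ N) :
    PreservesColimit (parallelPair f 0) (Lan) := by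
  haveI := additive_G G
  haveI := additive_lan hP G
  obtain ⟨Q, q, w, I, _, _, d, e, dQ, φ, χ, hφ, hχ, hcok, w₀, ⟨hq₀⟩⟩ := exists_cokernelDia hP f
  let hq : IsColimit (CokernelCofork.ofπ (f := f) q w) :=
    isColimitOfReflects (ObjectProperty.ind.{u} P).ι ((CokernelCofork.isColimitMapCoconeEquiv _ _).symm hq₀)
  obtain ⟨h₁⟩ := d.isColimit_lanCocone hP G
  obtain ⟨h₂⟩ := e.isColimit_lanCocone hP G
  obtain ⟨h₃⟩ := dQ.isColimit_lanCocone hP G
  choose w' hl using hcok
  let KG : ∀ i, IsColimit (CokernelCofork.ofπ (f := G.map (φ.app i)) (G.map (χ.app i))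
      (by rw [← G.map_comp, w' i, G.map_zero])) := fun i =>
    isColimitCoforkMapOfIsColimit' G (w' i) (hl i).some
  obtain ⟨w'', ⟨hL⟩⟩ := cokernel_colim (Functor.whiskerRight φ G) (Functor.whiskerRight χ G) h₁ h₂ h₃
    ((Lan).map f) ((Lan).map q) (fun i => lan_square G d e (hφ i)) (fun i => lan_square G e dQ (hχ i))
    (fun i => by show G.map _ ≫ G.map _ = 0; rw [← G.map_comp, w' i, G.map_zero])
    (fun i => Cofork.IsColimit.epi (KG i)) (fun i => ShortComplex.exact_of_g_is_cokernel _ (KG i))
  exact preservesColimit_of_preserves_colimit_cocone hq ((CokernelCofork.isColimitMapCoconeEquiv _ _).symm hL)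

/-- The pointwise left Kan extension of an exact functor to small filtered colimits is exact. -/
theorem exact_lan : PreservesFiniteLimits (Lan) ∧ PreservesFiniteColimits (Lan) := by
  haveI : P.IsClosedUnderIsomorphisms :=
    ObjectProperty.IsClosedUnderBinaryProducts.closedUnderIsomorphisms P
  let Q := ObjectProperty.ind.{u} P
  haveI : Q.ContainsZero := by
    obtain ⟨Z, hZ, h⟩ := P.exists_prop_of_containsZero
    exact ⟨Z, hZ, ObjectProperty.le_ind P _ h⟩
  haveI : Q.IsClosedUnderBinaryProducts := by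
    refine ⟨?_⟩
    rintro X ⟨p⟩
    refine Q.prop_of_iso ?_ (ind_biprod hP (p.prop_diag_obj ⟨.left⟩) (p.prop_diag_obj ⟨.right⟩))
    exact (biprod.isoProd _ _) ≪≫ IsLimit.conePointUniqueUpToIso (prodIsProd _ _)
      (((IsLimit.postcomposeHomEquiv (diagramIsoPair p.diag) _).symm p.isLimit))
  haveI : Q.IsClosedUnderFiniteProducts := .mk'
  haveI : Q.IsClosedUnderKernels := ⟨by
    intro Z hZ
    induction hZ with
    | @of_isLimit X₁ X₂ g k hk hg =>
      obtain ⟨K, k', w, -, -, -, -, -, -, -, -, -, -, -, w₀, ⟨hk'⟩⟩ :=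
        exists_kernelDia hP (M := ⟨X₁, hg.1⟩) (N := ⟨X₂, hg.2⟩) (ObjectProperty.homMk g)
      exact Q.prop_of_iso (IsLimit.conePointUniqueUpToIso hk' hk) K.property⟩
  haveI : Q.IsClosedUnderCokernels := ⟨by
    intro Z hZ
    induction hZ with
    | @of_isColimit X₁ X₂ g k hk hg =>
      obtain ⟨K, k', w, -, -, -, -, -, -, -, -, -, -, -, w₀, ⟨hk'⟩⟩ :=
        exists_cokernelDia hP (M := ⟨X₁, hg.1⟩) (N := ⟨X₂, hg.2⟩) (ObjectProperty.homMk g)
      exact Q.prop_of_iso (IsColimit.coconePointUniqueUpToIso hk' hk) K.property⟩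
  haveI := additive_lan hP G
  haveI : HasEqualizers Q.FullSubcategory := Preadditive.hasEqualizers_of_hasKernels
  haveI : HasCoequalizers Q.FullSubcategory := Preadditive.hasCoequalizers_of_hasCokernels
  haveI : HasBinaryBiproducts Q.FullSubcategory := HasBinaryBiproducts.of_hasBinaryProducts
  haveI : HasFiniteBiproducts Q.FullSubcategory := HasFiniteBiproducts.of_hasFiniteProducts
  haveI : ∀ {X Y : Q.FullSubcategory} (f : X ⟶ Y), PreservesLimit (parallelPair f 0) (Lan) :=
    fun f => preserves_kernel hP G f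
  haveI : ∀ {X Y : Q.FullSubcategory} (f : X ⟶ Y), PreservesColimit (parallelPair f 0) (Lan) :=
    fun f => preserves_cokernel hP G f
  exact ⟨Functor.preservesFiniteLimits_of_preservesKernels _, Functor.preservesFiniteColimits_of_preservesCokernels _⟩

end Groth.L09.IndLan
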