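import Mathlib.Algebra.Module.FinitePresentation
import Mathlib.Algebra.Category.ModuleCat.FilteredColimits
import Mathlib.Algebra.Category.ModuleCat.Colimits
import Mathlib.CategoryTheory.ObjectProperty.Ind
import Mathlib.CategoryTheory.Presentable.Finite
import Mathlib.LinearAlgebra.Finsupp.Supported

/-!
# Finitely presented modules are finitely presentable and exhaust all modules
-/

set_option autoImplicit false
set_option linter.style.haveILetI false
set_option backward.isDefEq.respectTransparency false
set_option backward.isDefEq.respectTransparency.types false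

universe u

open CategoryTheory CategoryTheory.Limits

noncomputable section

namespace Groth.L09.IndLan

variable {A : Type u} [CommRing A]

/-- Finitely presented modules. -/
abbrev fpMod (A : Type u) [CommRing A] : ObjectProperty (ModuleCat.{u} A) := fun M => Module.FinitePresentation A M

theorem exists_stage {J : Type u} [SmallCategory J] [IsFiltered J] {D : J ⥤ ModuleCat.{u} A} {c : Cocone D}
    (hc : IsColimit c) {n : ℕ} (x : Fin n → c.pt) :
    ∃ (j : J) (y : Fin n → D.obj j), ∀ i, c.ι.app j (y i) = x i := by
  classical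
  choose k z hz using fun i => Types.jointly_surjective_of_isColimit
    (isColimitOfPreserves (forget (ModuleCat.{u} A)) hc) (x i)
  obtain ⟨j, hj⟩ := IsFiltered.sup_objs_exists (Finset.univ.image k)
  refine ⟨j, fun i => D.map (hj (Finset.mem_image_of_mem k (Finset.mem_univ i))).some (z i), fun i => ?_⟩
  exact (ConcreteCategory.congr_hom (c.w _) (z i)).trans (hz i)

theorem exists_zero_stage {J : Type u} [SmallCategory J] [IsFiltered J] {D : J ⥤ ModuleCat.{u} A} {c : Cocone D}
    (hc : IsColimit c) {j : J} {n : ℕ} (y : Fin n → D.obj j) (h : ∀ i, c.ι.app j (y i) = 0) :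
    ∃ (k : J) (g : j ⟶ k), ∀ i, D.map g (y i) = 0 := by
  induction n with
  | zero => exact ⟨j, 𝟙 j, fun i => i.elim0⟩
  | succ n ih =>
    obtain ⟨k, g, hg⟩ := ih (fun i => y i.succ) fun i => h _
    have h0 : c.ι.app k (D.map g (y 0)) = c.ι.app k 0 := by
      rw [map_zero]
      exact (ConcreteCategory.congr_hom (c.w g) (y 0)).trans (h 0)
    let z0 : D.obj k := 0
    obtain ⟨m, a, ha⟩ := (Types.FilteredColimit.isColimit_eq_iff' (isColimitOfPreserves (forget (ModuleCat.{u} A)) hc)
      (D.map g (y 0)) z0).1 h0
    refine ⟨m, g ≫ a, Fin.cases ?_ fun i => ?_⟩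
    · show D.map (g ≫ a) (y 0) = 0
      rw [D.map_comp, ConcreteCategory.comp_apply]
      exact ha.trans (map_zero (D.map a).hom)
    · show D.map (g ≫ a) (y i.succ) = 0
      rw [D.map_comp, ConcreteCategory.comp_apply, hg i, map_zero]

/-- Finitely presented modules are finitely presentable. -/
theorem isFinitelyPresentable_fp (M : ModuleCat.{u} A) (hM : fpMod A M) : IsFinitelyPresentable.{u} M := by
  haveI : Module.FinitePresentation A M := hM
  rw [isFinitelyPresentable_iff_preservesFilteredColimitsOfSize]
  refine ⟨fun J _ _ => ⟨fun {D} => ?_⟩⟩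
  refine preservesColimit_of_preserves_colimit_cocone (colimit.isColimit D)
    (Types.FilteredColimit.isColimitOf' _ _ (fun φ => ?_) fun j a b hab => ?_)
  · let φ' : M ⟶ colimit D := φ
    obtain ⟨n, π, hπ⟩ := Module.Finite.exists_fin' A M
    obtain ⟨m, r, hr⟩ := Submodule.fg_iff_exists_fin_generating_family.1 (Module.FinitePresentation.fg_ker π hπ)
    obtain ⟨j, y, hy⟩ := exists_stage (colimit.isColimit D) fun i => φ' (π (Pi.single i 1))
    let L := (Pi.basisFun A (Fin n)).constr A y
    have hL : ∀ v, colimit.ι D j (L v) = φ' (π v) := by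
      have e : (colimit.ι D j).hom.comp L = φ'.hom.comp π := (Pi.basisFun A (Fin n)).ext fun i => by
        show colimit.ι D j (L (Pi.basisFun A (Fin n) i)) = φ' (π (Pi.basisFun A (Fin n) i))
        rw [Module.Basis.constr_basis, Pi.basisFun_apply]
        exact hy i
      exact fun v => LinearMap.congr_fun e v
    obtain ⟨k, g, hg⟩ := exists_zero_stage (colimit.isColimit D) (j := j) (fun l => L (r l)) fun l => by
      refine (hL _).trans ?_
      rw [show π (r l) = 0 from LinearMap.mem_ker.1 (hr ▸ Submodule.subset_span ⟨l, rfl⟩), map_zero]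
    have hker : LinearMap.ker π ≤ LinearMap.ker ((D.map g).hom.comp L) := by
      rw [← hr, Submodule.span_le]
      rintro _ ⟨l, rfl⟩
      exact hg l
    let ψ : M ⟶ D.obj k := ModuleCat.ofHom (((LinearMap.ker π).liftQ ((D.map g).hom.comp L) hker).comp
      (π.quotKerEquivOfSurjective hπ).symm.toLinearMap)
    refine ⟨k, ψ, ModuleCat.hom_ext (LinearMap.ext fun x => ?_)⟩
    obtain ⟨v, rfl⟩ := hπ x
    have h1 : ψ (π v) = D.map g (L v) := by
      show (LinearMap.ker π).liftQ _ hker ((π.quotKerEquivOfSurjective hπ).symm (π v)) = _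
      rw [show (π.quotKerEquivOfSurjective hπ).symm (π v) = Submodule.Quotient.mk v from
        (π.quotKerEquivOfSurjective hπ).symm_apply_eq.2 rfl]
      rfl
    show φ' (π v) = colimit.ι D k (ψ (π v))
    rw [h1]
    exact (hL v).symm.trans (ConcreteCategory.congr_hom (colimit.w D g) (L v)).symm
  · let a' : M ⟶ D.obj j := a
    let b' : M ⟶ D.obj j := b
    have hab' : a' ≫ colimit.ι D j = b' ≫ colimit.ι D j := hab
    obtain ⟨n, π, hπ⟩ := Module.Finite.exists_fin' A M
    obtain ⟨k, g, hg⟩ := exists_zero_stage (colimit.isColimit D) (j := j)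
      (fun i : Fin n => a' (π (Pi.single i 1)) - b' (π (Pi.single i 1))) fun i => by
        rw [map_sub, sub_eq_zero]
        exact ConcreteCategory.congr_hom hab' (π (Pi.single i 1))
    have e : ((D.map g).hom.comp a'.hom).comp π = ((D.map g).hom.comp b'.hom).comp π :=
      (Pi.basisFun A (Fin n)).ext fun i => by
        rw [Pi.basisFun_apply]
        exact sub_eq_zero.1 ((map_sub (D.map g).hom _ _).symm.trans (hg i))
    refine ⟨k, g, show a' ≫ D.map g = b' ≫ D.map g from ModuleCat.hom_ext (LinearMap.ext fun x => ?_)⟩
    obtain ⟨v, rfl⟩ := hπ x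
    exact LinearMap.congr_fun e v

variable (M : ModuleCat.{u} A)

/-- Finitely many elements and finitely many relations between elements. -/
abbrev RelIdx : Type u :=
  {q : Finset M × Finset (M →₀ A) // ∀ r ∈ q.2, Finsupp.linearCombination A id r = 0}

variable {M}

/-- The free module on the elements of an index. -/
abbrev Fr (q : RelIdx M) : Type u := {x : M // x ∈ q.1.1} →₀ A

/-- Its map to the formal combinations. -/
abbrev incl (q : RelIdx M) : Fr q →ₗ[A] (M →₀ A) := Finsupp.lmapDomain A A Subtype.val

theorem incl_injective (q : RelIdx M) : Function.Injective (incl q) :=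
  Finsupp.mapDomain_injective Subtype.val_injective

/-- The relations of an index. -/
abbrev relSpan (q : RelIdx M) : Submodule A (Fr q) :=
  Submodule.span A (incl q ⁻¹' (q.1.2 : Set (M →₀ A)))

/-- The inclusion of the elements. -/
abbrev trans {q q' : RelIdx M} (h : q ≤ q') : Fr q →ₗ[A] Fr q' :=
  Finsupp.lmapDomain A A fun x => ⟨x.1, (show q.1.1 ⊆ q'.1.1 from h.1) x.2⟩

theorem incl_trans {q q' : RelIdx M} (h : q ≤ q') (v : Fr q) : incl q' (trans h v) = incl q v :=
  (Finsupp.mapDomain_comp (v := v)).symm

theorem trans_trans {q q' q'' : RelIdx M} (h : q ≤ q') (h' : q' ≤ q'') (v : Fr q) :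
    trans h' (trans h v) = trans (h.trans h') v :=
  (Finsupp.mapDomain_comp (v := v)).symm

theorem relSpan_le {q q' : RelIdx M} (h : q ≤ q') : relSpan q ≤ (relSpan q').comap (trans h) :=
  Submodule.span_le.2 fun x hx => Submodule.subset_span (by
    show incl q' (trans h x) ∈ (q'.1.2 : Set (M →₀ A))
    rw [incl_trans]
    exact h.2 hx)

/-- The finitely presented pieces. -/
abbrev relDiag : RelIdx M ⥤ ModuleCat.{u} A where
  obj q := ModuleCat.of A (Fr q ⧸ relSpan q)
  map {q q'} h := ModuleCat.ofHom ((relSpan q).mapQ (relSpan q') _ (relSpan_le h.le))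
  map_id q := ModuleCat.hom_ext (Submodule.linearMap_qext _ (LinearMap.ext fun v =>
    congrArg Submodule.Quotient.mk (Finsupp.mapDomain_id (v := v))))
  map_comp {a b c} f g := ModuleCat.hom_ext (Submodule.linearMap_qext _ (LinearMap.ext fun v => by
    show (Submodule.Quotient.mk (trans (f ≫ g).le v) : Fr c ⧸ relSpan c) =
      Submodule.Quotient.mk (trans g.le (trans f.le v))
    exact congrArg _ (trans_trans f.le g.le v).symm))

/-- The value of a formal combination. -/
abbrev val (q : RelIdx M) : (Fr q ⧸ relSpan q) →ₗ[A] M :=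
  (relSpan q).liftQ ((Finsupp.linearCombination A id).comp (incl q))
    (Submodule.span_le.2 fun x hx => q.2 _ hx)

theorem val_trans {q q' : RelIdx M} (h : q ≤ q') :
    (val q').comp ((relSpan q).mapQ (relSpan q') _ (relSpan_le h)) = val q :=
  Submodule.linearMap_qext _ (LinearMap.ext fun v => congrArg (Finsupp.linearCombination A id) (incl_trans h v))

/-- Their maps to the module. -/
abbrev relCocone : Cocone (relDiag (M := M)) where
  pt := M
  ι :=
    { app := fun q => ModuleCat.ofHom (val q)
      naturality := fun q q' h => ModuleCat.hom_ext (val_trans h.le) }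

variable (M)

/-- Every module is a filtered colimit of finitely presented ones. -/
theorem ind_fp : ObjectProperty.ind.{u} (fpMod A) M := by
  classical
  haveI : Nonempty (RelIdx M) := ⟨⟨(∅, ∅), fun r hr => absurd hr (Finset.notMem_empty r)⟩⟩
  haveI : IsDirectedOrder (RelIdx M) := ⟨fun a b => ⟨⟨a.1 ⊔ b.1, fun r hr => by
    rcases Finset.mem_union.1 hr with h | h
    · exact a.2 r h
    · exact b.2 r h⟩,
    Subtype.coe_le_coe.1 le_sup_left, Subtype.coe_le_coe.1 le_sup_right⟩⟩
  have hc : IsColimit (relCocone (M := M)) := by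
    refine isColimitOfReflects (forget (ModuleCat.{u} A)) (Types.FilteredColimit.isColimitOf' _ _ (fun x => ?_)
      fun q a b hab => ?_)
    · let x' : M := x
      let q : RelIdx M := ⟨({x'}, ∅), fun r hr => absurd hr (Finset.notMem_empty r)⟩
      refine ⟨q, (Submodule.Quotient.mk (Finsupp.single ⟨x', Finset.mem_singleton_self _⟩ 1) : Fr q ⧸ relSpan q), ?_⟩
      show x' = Finsupp.linearCombination A id (Finsupp.mapDomain Subtype.val (Finsupp.single _ 1))
      simp
    · obtain ⟨a', rfl⟩ := Submodule.Quotient.mk_surjective (relSpan q) a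
      obtain ⟨b', rfl⟩ := Submodule.Quotient.mk_surjective (relSpan q) b
      have h0 : Finsupp.linearCombination A id (incl q (a' - b')) = 0 := by
        rw [map_sub, map_sub, sub_eq_zero]
        exact hab
      let q' : RelIdx M := ⟨(q.1.1, insert (incl q (a' - b')) q.1.2), fun r hr => by
        rcases Finset.mem_insert.1 hr with rfl | h
        · exact h0
        · exact q.2 r h⟩
      have hle : q ≤ q' := ⟨subset_rfl, Finset.subset_insert _ _⟩
      refine ⟨q', homOfLE hle, (Submodule.Quotient.eq _).2 (Submodule.subset_span ?_)⟩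
      show incl q' (trans hle a' - trans hle b') ∈ (q'.1.2 : Set (M →₀ A))
      rw [← map_sub, incl_trans]
      exact Finset.mem_insert_self _ _
  refine ⟨RelIdx M, inferInstance, inferInstance, ⟨relDiag, relCocone.ι, hc⟩, fun q => ?_⟩
  haveI : Module.FinitePresentation A (Fr q) := Module.finitePresentation_of_projective A _
  refine Module.finitePresentation_of_surjective (relSpan q).mkQ (Submodule.mkQ_surjective _) ?_
  rw [Submodule.ker_mkQ]
  exact Submodule.fg_span (q.1.2.finite_toSet.preimage (incl_injective q).injOn)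

end Groth.L09.IndLan
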