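import Groth.Agent.L09.IndLan.ModFp
import Groth.Agent.L09.IndLan.AccExact
import Mathlib.Algebra.Category.ModuleCat.Products
import Mathlib.Algebra.Category.ModuleCat.Kernels
import Mathlib.Algebra.Category.ModuleCat.AB
import Mathlib.Algebra.Category.ModuleCat.Abelian
import Mathlib.CategoryTheory.ObjectProperty.FiniteProducts
import Mathlib.CategoryTheory.Preadditive.LeftExact
import Mathlib.CategoryTheory.Preadditive.Biproducts

/-!
# Closure properties of finitely presented modules; restrictions to them
-/

set_option autoImplicit false
set_option linter.style.haveILetI false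
set_option backward.isDefEq.respectTransparency false
set_option backward.isDefEq.respectTransparency.types false

universe v' u' u

open CategoryTheory CategoryTheory.Limits

noncomputable section

namespace Groth.L09.IndLan

variable {A : Type u} [CommRing A]

instance fpMod_iso : (fpMod A).IsClosedUnderIsomorphisms where
  of_iso {M N} e hM := by
    haveI : Module.FinitePresentation A M := hM
    exact Module.FinitePresentation.of_equiv e.toLinearEquiv

instance fpMod_zero : (fpMod A).ContainsZero where
  exists_zero := ⟨ModuleCat.of A PUnit.{u + 1}, ModuleCat.isZero_of_subsingleton _,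
    show Module.FinitePresentation A PUnit.{u + 1} from inferInstance⟩

instance fpMod_finiteProducts : (fpMod A).IsClosedUnderFiniteProducts := by
  refine .of_isClosedUnderLimitsOfShape.{0} fun J _ => ⟨fun X ⟨p⟩ => ?_⟩
  let f : J → ModuleCat.{u} A := fun j => p.diag.obj ⟨j⟩
  haveI : ∀ j, Module.FinitePresentation A (f j) := fun j => p.prop_diag_obj ⟨j⟩
  let e : p.diag ≅ Discrete.functor f := Discrete.natIsoFunctor
  have hl := (IsLimit.postcomposeHomEquiv e _).symm p.isLimit
  exact (fpMod A).prop_of_iso (hl.conePointUniqueUpToIso (ModuleCat.productConeIsLimit f)).symm
    (show Module.FinitePresentation A (∀ j, f j) from inferInstance)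

instance fpMod_cokernels : (fpMod A).IsClosedUnderCokernels where
  cokernels_le := by
    rintro _ ⟨f, k, hk, hX, hY⟩
    haveI : Module.FinitePresentation A _ := hX
    haveI : Module.FinitePresentation A _ := hY
    refine (fpMod A).prop_of_iso ((ModuleCat.cokernelIsColimit f).coconePointUniqueUpToIso hk) ?_
    refine Module.finitePresentation_of_surjective (LinearMap.range f.hom).mkQ (Submodule.mkQ_surjective _) ?_
    rw [Submodule.ker_mkQ]
    exact (Module.Finite.iff_fg).1 inferInstance

/-- Over a coherent ring, kernels of maps of finitely presented modules are finitely presented. -/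
theorem fpMod_kernels (hcoh : ∀ (M : ModuleCat.{u} A), fpMod A M → ∀ N : Submodule A M, N.FG → Module.FinitePresentation A N) :
    (fpMod A).IsClosedUnderKernels where
  kernels_le := by
    rintro _ ⟨f, k, hk, hX, hY⟩
    haveI : Module.FinitePresentation A _ := hX
    haveI : Module.FinitePresentation A (LinearMap.range f.hom) := hcoh _ hY _ ((Module.Finite.iff_fg).1 inferInstance)
    refine (fpMod A).prop_of_iso ((ModuleCat.kernelIsLimit f).conePointUniqueUpToIso hk) ?_
    refine hcoh _ hX (LinearMap.ker f.hom) ?_
    rw [← LinearMap.ker_rangeRestrict]
    exact Module.FinitePresentation.fg_ker _ (LinearMap.surjective_rangeRestrict _)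

variable {B : Type u'} [Category.{v'} B] [Preadditive B] [HasFiniteBiproducts B] (G : (fpMod A).FullSubcategory ⥤ B)

/-- A right exact functor on finitely presented modules is additive. -/
theorem additive_of_rightExact [PreservesFiniteColimits G] : G.Additive := by
  haveI : HasFiniteBiproducts (fpMod A).FullSubcategory := HasFiniteBiproducts.of_hasFiniteProducts
  haveI : HasZeroObject B := inferInstance
  haveI := hasBinaryBiproducts_of_finite_biproducts (fpMod A).FullSubcategory
  haveI : G.PreservesZeroMorphisms := inferInstance
  haveI := preservesBinaryBiproducts_of_preservesBinaryCoproducts G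
  exact Functor.additive_of_preservesBinaryBiproducts G

/-- A left exact functor on finitely presented modules is additive. -/
theorem additive_of_leftExact [PreservesFiniteLimits G] : G.Additive := by
  haveI : HasFiniteBiproducts (fpMod A).FullSubcategory := HasFiniteBiproducts.of_hasFiniteProducts
  haveI : HasZeroObject B := inferInstance
  haveI : G.PreservesZeroMorphisms := inferInstance
  exact Functor.additive_of_preserves_binary_products G

end Groth.L09.IndLan
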