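import Mathlib.CategoryTheory.ObjectProperty.Ind
import Mathlib.CategoryTheory.ObjectProperty.Kernels
import Mathlib.CategoryTheory.ObjectProperty.FiniteProducts
import Mathlib.CategoryTheory.Functor.KanExtension.Pointwise
import Mathlib.CategoryTheory.Comma.Final
import Mathlib.CategoryTheory.Abelian.GrothendieckAxioms.Colim
import Mathlib.CategoryTheory.Abelian.Basic

/-!
# Left Kan extensions to small filtered colimits of finitely presentable objects: the basic colimit

`Dia P M` is a small filtered diagram in `P` with colimit `M`; the pointwise left Kan extension along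
`P ⊆ ind P` of a functor sends it to a colimit.
-/

set_option autoImplicit false
set_option linter.style.haveILetI false
set_option linter.unusedSectionVars false
set_option backward.isDefEq.respectTransparency false
set_option backward.isDefEq.respectTransparency.types false

universe v' u' u w

open CategoryTheory CategoryTheory.Limits

noncomputable section

namespace Groth.L09.IndLan

variable {C : Type w} [Category.{u} C] (P : ObjectProperty C)

/-- The inclusion of `P` into its small filtered colimits. -/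
abbrev inc : P.FullSubcategory ⥤ (ObjectProperty.ind.{u} P).FullSubcategory :=
  ObjectProperty.ιOfLE (ObjectProperty.le_ind P)

/-- A small filtered diagram in `P` whose colimit is `M`. -/
structure Dia (M : (ObjectProperty.ind.{u} P).FullSubcategory) (J : Type u) [SmallCategory J] where
  /-- the diagram -/
  D : J ⥤ P.FullSubcategory
  /-- the cocone -/
  t : D ⋙ P.ι ⟶ (Functor.const J).obj M.obj
  /-- it is a colimit -/
  hc : IsColimit ({ pt := M.obj, ι := t } : Cocone (D ⋙ P.ι))

variable {P}

theorem exists_dia (M : (ObjectProperty.ind.{u} P).FullSubcategory) :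
    ∃ (J : Type u) (_ : SmallCategory J) (_ : IsFiltered J), Nonempty (Dia P M J) := by
  obtain ⟨J, _, hJ, pres, hp⟩ := M.property
  exact ⟨J, inferInstance, hJ, ⟨⟨P.lift pres.diag hp, pres.ι, pres.isColimit⟩⟩⟩

variable {J : Type u} [SmallCategory J] {M : (ObjectProperty.ind.{u} P).FullSubcategory} (d : Dia P M J)

theorem Dia.w {i j : J} (g : i ⟶ j) : (d.D.map g).hom ≫ d.t.app j = d.t.app i :=
  (d.t.naturality g).trans (Category.comp_id _)

/-- The legs as morphisms of the category of filtered colimits. -/
abbrev Dia.leg (j : J) : (inc P).obj (d.D.obj j) ⟶ M := ObjectProperty.homMk (d.t.app j)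

/-- The functor to the costructured arrows. -/
def Dia.toCA : J ⥤ CostructuredArrow (inc P) M :=
  d.D.toCostructuredArrow (inc P) M d.leg fun g => ObjectProperty.hom_ext _ (d.w g)

variable (hP : ∀ c, P c → IsFinitelyPresentable.{u} c)
include hP

theorem Dia.exists_fac [IsFiltered J] {c : P.FullSubcategory} (a : c.obj ⟶ M.obj) :
    ∃ (j : J) (g : c ⟶ d.D.obj j), g.hom ≫ d.t.app j = a := by
  haveI := hP _ c.property
  obtain ⟨j, g, hg⟩ := IsFinitelyPresentable.exists_hom_of_isColimit d.hc a
  exact ⟨j, ObjectProperty.homMk g, hg⟩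

theorem Dia.exists_eq [IsFiltered J] {c : P.FullSubcategory} {j : J} (f g : c ⟶ d.D.obj j)
    (h : f.hom ≫ d.t.app j = g.hom ≫ d.t.app j) : ∃ (k : J) (u : j ⟶ k), f ≫ d.D.map u = g ≫ d.D.map u := by
  haveI := hP _ c.property
  obtain ⟨k, u, v, hu⟩ := IsFinitelyPresentable.exists_eq_of_isColimit d.hc f.hom g.hom h
  obtain ⟨m, p, q⟩ : ∃ (m : J) (p : k ⟶ m), u ≫ p = v ≫ p :=
    ⟨_, IsFiltered.coeqHom u v, IsFiltered.coeq_condition u v⟩
  refine ⟨m, u ≫ p, ObjectProperty.hom_ext _ ?_⟩
  have := congrArg (fun t => t ≫ (d.D.map p).hom) hu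
  simp only [Category.assoc] at this
  show f.hom ≫ (d.D.map (u ≫ p)).hom = g.hom ≫ (d.D.map (u ≫ p)).hom
  nth_rewrite 2 [q]
  rw [Functor.map_comp, Functor.map_comp]
  exact this

theorem Dia.toCA_final [IsFiltered J] : d.toCA.Final := by
  refine Functor.final_of_exists_of_isFiltered _ (fun x => ?_) fun {x j} s s' => ?_
  · obtain ⟨j, g, hg⟩ := d.exists_fac hP x.hom.hom
    exact ⟨j, ⟨CostructuredArrow.homMk g (ObjectProperty.hom_ext _ hg)⟩⟩
  · have hs := congrArg InducedCategory.Hom.hom (CostructuredArrow.w s)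
    have hs' := congrArg InducedCategory.Hom.hom (CostructuredArrow.w s')
    obtain ⟨k, u, hu⟩ := d.exists_eq hP s.left s'.left (hs.trans hs'.symm)
    exact ⟨k, u, CostructuredArrow.hom_ext _ _ hu⟩

/-- A morphism of filtered colimits is the colimit of a small filtered diagram of morphisms. -/
theorem exists_mapDia {M N : (ObjectProperty.ind.{u} P).FullSubcategory} (f : M ⟶ N) :
    ∃ (I : Type u) (_ : SmallCategory I) (_ : IsFiltered I) (d : Dia P M I) (e : Dia P N I)
      (φ : d.D ⟶ e.D), ∀ i, (φ.app i).hom ≫ e.t.app i = d.t.app i ≫ f.hom := by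
  obtain ⟨J₁, _, _, ⟨d₁⟩⟩ := exists_dia M
  obtain ⟨J₂, _, _, ⟨d₂⟩⟩ := exists_dia N
  haveI := d₂.toCA_final hP
  let L : J₁ ⥤ CostructuredArrow (inc P) N := d₁.toCA ⋙ CostructuredArrow.map f
  refine ⟨Comma L d₂.toCA, inferInstance, inferInstance,
    ⟨Comma.fst L d₂.toCA ⋙ d₁.D, Functor.whiskerLeft (Comma.fst L d₂.toCA) d₁.t,
      (Functor.Final.isColimitWhiskerEquiv (Comma.fst L d₂.toCA) _).symm d₁.hc⟩,
    ⟨Comma.snd L d₂.toCA ⋙ d₂.D, Functor.whiskerLeft (Comma.snd L d₂.toCA) d₂.t,
      (Functor.Final.isColimitWhiskerEquiv (Comma.snd L d₂.toCA) _).symm d₂.hc⟩,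
    { app := fun x => x.hom.left, naturality := fun x y g => congrArg CommaMorphism.left g.w }, fun x => ?_⟩
  exact congrArg InducedCategory.Hom.hom (CostructuredArrow.w x.hom)

variable {A' : Type u'} [Category.{v'} A'] (G : P.FullSubcategory ⥤ A')
  [(inc P).HasPointwiseLeftKanExtension G]

omit hP in
/-- The cocone of the extension on a diagram. -/
def Dia.lanCocone : Cocone (d.D ⋙ G) where
  pt := ((inc P).pointwiseLeftKanExtension G).obj M
  ι :=
    { app := fun j => ((inc P).pointwiseLeftKanExtensionUnit G).app (d.D.obj j) ≫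
        ((inc P).pointwiseLeftKanExtension G).map (d.leg j)
      naturality := fun _ _ g =>
        (((Functor.LeftExtension.mk _ ((inc P).pointwiseLeftKanExtensionUnit G)).coconeAt M).whisker
          d.toCA).ι.naturality g }

theorem Dia.isColimit_lanCocone [IsFiltered J] : Nonempty (IsColimit (d.lanCocone G)) := by
  haveI := d.toCA_final hP
  have h := (inc P).pointwiseLeftKanExtensionIsPointwiseLeftKanExtension G M
  exact ⟨(Functor.Final.isColimitWhiskerEquiv d.toCA _).symm h⟩

end Groth.L09.IndLan
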